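import Cfsg.Agent.RankOneInvolution.Indicator
import Cfsg.Agent.CharactersDeep.OddDegreeIndicator

/-!
# Bounds on the vectors from the multiplicities on the centralizers of involutions
-/

set_option autoImplicit false
set_option linter.unusedSectionVars false
set_option linter.style.haveILetI false

namespace CfsgLib.RankOneInvolution

open Cfsg CfsgLib.Blocks CfsgLib.PrincipalBlock CfsgLib.BlocksFrobenius
open scoped ComplexConjugate

universe u

variable {G : Type u} [Group G] [Fintype G] [Fact (Nat.Prime 2)] {P : Sylow 2 G}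
  {M : Ideal AlgInt} [M.IsPrime]

open Classical in
/-- The multiplicity of the trivial character on `C(y)` is at least every coefficient. -/
theorem exists_mult_centralizer (h : Semireg P) (hM : Cfsg.IsPModular 2 M) {χ : IrrCharacter G}
    (hχ : χ ∈ Cfsg.principalBlock M G) {y : G} (hy : y ∈ (P : Subgroup G)) (hy1 : y ≠ 1) :
    ∃ m : ℕ, (∑ c : Subgroup.centralizer ({y} : Set G), conj ((χ : G → ℂ) (c : G))) =
        (Nat.card (Subgroup.centralizer ({y} : Set G)) : ℂ) * m ∧
      ∀ ψ : (P : Subgroup G) →* ℂˣ, coeff χ ψ ≤ m := by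
  haveI := Fintype.ofFinite (P : Subgroup G)
  haveI := h.comm
  let C := Subgroup.centralizer ({y} : Set G)
  obtain ⟨K, hKn, hK, hKi⟩ := h.exists_complement hy hy1
  haveI := hKn
  have hle : (P : Subgroup G) ≤ C := h.le_centralizer_singleton hy
  have hn0 : (Nat.card C : ℂ) ≠ 0 := Nat.cast_ne_zero.2 Nat.card_pos.ne'
  have hres : Cfsg.IsCharacter C (fun c : C => (χ : G → ℂ) (c : G)) :=
    Characters.isCharacter_restrict C (Characters.isCharacter_of_isIrr χ.2)
  obtain ⟨m, hm⟩ := Characters.classInner_characters (Characters.isCharacter_one (G := C)) hres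
  have hm' : (∑ c : C, conj ((χ : G → ℂ) (c : G))) = (Nat.card C : ℂ) * m := by
    rw [← hm, Cfsg.classInner, mul_inv_cancel_left₀ hn0]
    simp
  refine ⟨m, hm', fun ψ => ?_⟩
  let π : ↥(P : Subgroup G) →* C ⧸ K := (QuotientGroup.mk' K).comp (Subgroup.inclusion hle)
  have hπ : Function.Bijective π := by
    refine (Nat.bijective_iff_injective_and_card π).2 ⟨fun a b e => ?_, ?_⟩
    · refine inv_mul_eq_one.1 ?_
      by_contra hne
      have hmem : Subgroup.inclusion hle (a⁻¹ * b) ∈ K := by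
        rw [map_mul, map_inv]
        exact QuotientGroup.eq.1 e
      refine hK ((?_ : 2 ∣ orderOf (Subgroup.inclusion hle (a⁻¹ * b))).trans
        (Subgroup.orderOf_dvd_natCard K hmem))
      rw [← Subgroup.orderOf_coe]
      exact dvd_orderOf_of_mem (a⁻¹ * b).2 fun e1 => hne (Subtype.ext e1)
    · rw [← Subgroup.index_eq_card, hKi]
  let e := MulEquiv.ofBijective π hπ
  let ψ' : C →* ℂˣ := ψ.comp (e.symm.toMonoidHom.comp (QuotientGroup.mk' K))
  obtain ⟨m', hm2⟩ := Characters.classInner_characters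
    (Characters.isCharacter_of_isIrr (Characters.isIrr_linChar ψ')) hres
  have hm2' : (∑ c : C, (ψ' c : ℂ) * conj ((χ : G → ℂ) (c : G))) = (Nat.card C : ℂ) * m' := by
    rw [← hm2, Cfsg.classInner, mul_inv_cancel_left₀ hn0]
  obtain ⟨n, hn⟩ := P.2.exists_card_eq
  have hval : ∀ c : C, e.symm (c : C ⧸ K) ≠ 1 →
      (χ : G → ℂ) (c : G) = (χ : G → ℂ) ((e.symm (c : C ⧸ K) : (P : Subgroup G)) : G) := by
    intro c hc
    obtain ⟨s, hcs, hcom, ⟨k, hk⟩, hso⟩ := Star.pPart_spec (p := 2) c
    set a := Star.pPart 2 c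
    have hsK : s ∈ K := mem_of_regular K (hKi.trans hn) hso
    obtain ⟨Q, hQ⟩ := (IsPGroup.of_card (p := 2) (n := k)
      (show Nat.card (Subgroup.zpowers a) = 2 ^ k by rw [Nat.card_zpowers, hk])).exists_le_sylow
    obtain ⟨d, hd⟩ := MulAction.exists_smul_eq C Q (P.subtype hle)
    have hmem : ((d * a * d⁻¹ : C) : G) ∈ (P : Subgroup G) := by
      have : d * a * d⁻¹ ∈ ((P.subtype hle : Sylow 2 C) : Subgroup C) := by
        rw [← hd]
        exact ⟨a, hQ (Subgroup.mem_zpowers a), rfl⟩
      exact this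
    set w : (P : Subgroup G) := ⟨_, hmem⟩
    have hw : e w = (c : C ⧸ K) := by
      obtain ⟨b, hb⟩ := hπ.2 (d : C ⧸ K)
      show π w = _
      have e1 : (c : C ⧸ K) = (a : C ⧸ K) := by
        rw [← hcs, QuotientGroup.mk_mul, (QuotientGroup.eq_one_iff s).2 hsK, mul_one]
      obtain ⟨b', hb'⟩ := hπ.2 (a : C ⧸ K)
      have e2 : π w = (d : C ⧸ K) * (a : C ⧸ K) * (d : C ⧸ K)⁻¹ := rfl
      rw [e2, e1, ← hb, ← hb', ← map_inv, ← map_mul, ← map_mul, mul_comm' b b',
        mul_inv_cancel_right]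
    have hwe : e.symm (c : C ⧸ K) = w := by rw [← hw, e.symm_apply_apply]
    rw [hwe] at hc ⊢
    have hp : Cfsg.IsPPart 2 ((d * c * d⁻¹ : C) : G) (w : G) := by
      refine ⟨((d * s * d⁻¹ : C) : G), ?_, ?_, isPow_of_mem w.2, ?_⟩
      · have : d * a * d⁻¹ * (d * s * d⁻¹) = d * c * d⁻¹ := by rw [← hcs]; group
        exact congrArg Subtype.val this
      · have : Commute (d * a * d⁻¹) (d * s * d⁻¹) := by
          show _ = _
          calc d * a * d⁻¹ * (d * s * d⁻¹) = d * (a * s) * d⁻¹ := by group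
            _ = _ := by rw [hcom.eq]; group
        exact congrArg Subtype.val this.eq
      · rw [Subgroup.orderOf_coe, show d * s * d⁻¹ = MulAut.conj d s from rfl, MulEquiv.orderOf_eq]
        exact hso
    have h1 := h.apply_of_isPPart hM hχ hp w.2 fun e0 => hc (Subtype.ext e0)
    rw [← h1]
    push_cast
    rw [Characters.isClassFunction_of_isIrr χ.2]
  -- the difference
  have hdiff : (Nat.card C : ℂ) * ((m : ℂ) - m') = (Nat.card C : ℂ) * (coeff χ ψ : ℂ) := by
    rw [mul_sub, ← hm', ← hm2', ← Finset.sum_sub_distrib]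
    rw [← Finset.sum_fiberwise Finset.univ (fun c : C => e.symm (c : C ⧸ K))]
    have hfib : ∀ w : (P : Subgroup G),
        ∑ c ∈ Finset.univ.filter (fun c : C => e.symm (c : C ⧸ K) = w),
          (conj ((χ : G → ℂ) (c : G)) - (ψ' c : ℂ) * conj ((χ : G → ℂ) (c : G))) =
        (Nat.card K : ℂ) * ((1 - (ψ w : ℂ)) * conj ((χ : G → ℂ) (w : G))) := by
      intro w
      rw [Finset.sum_congr rfl (g := fun _ => (1 - (ψ w : ℂ)) * conj ((χ : G → ℂ) (w : G)))
        fun c hc => ?_, Finset.sum_const, nsmul_eq_mul]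
      · congr 2
        obtain ⟨c₀, hc₀⟩ := QuotientGroup.mk_surjective (e w)
        rw [Nat.card_eq_fintype_card, ← Finset.card_univ]
        refine (Finset.card_bij (fun (k : K) _ => c₀ * (k : C)) ?_ ?_ ?_).symm
        · intro k _
          refine Finset.mem_filter.2 ⟨Finset.mem_univ _, ?_⟩
          rw [QuotientGroup.mk_mul, (QuotientGroup.eq_one_iff (k : C)).2 k.2, mul_one, hc₀,
            e.symm_apply_apply]
        · exact fun _ _ _ _ he => Subtype.ext (mul_left_cancel he)
        · intro c hc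
          refine ⟨⟨c₀⁻¹ * c, QuotientGroup.eq.1 ?_⟩, Finset.mem_univ _, mul_inv_cancel_left c₀ c⟩
          rw [hc₀, ← (Finset.mem_filter.1 hc).2, e.apply_symm_apply]
      · have hcw := (Finset.mem_filter.1 hc).2
        have hψ : (ψ' c : ℂ) = (ψ w : ℂ) := by rw [← hcw]; rfl
        rw [hψ]
        by_cases hw : w = 1
        · rw [hw, map_one, Units.val_one]; ring
        · rw [hval c (hcw ▸ hw), hcw]
          ring
    rw [Finset.sum_congr rfl fun w _ => hfib w, ← Finset.mul_sum]
    have hcc := congrArg conj (card_mul_coeff (P := P) χ ψ)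
    rw [map_mul, map_natCast, map_intCast, map_sum] at hcc
    have e1 : ∑ w : (P : Subgroup G), (1 - (ψ w : ℂ)) * conj ((χ : G → ℂ) (w : G)) =
        (Nat.card (P : Subgroup G) : ℂ) * (coeff χ ψ : ℂ) := by
      rw [hcc]
      exact Finset.sum_congr rfl fun w _ => by
        rw [map_mul, map_sub, map_one, Complex.conj_conj]; ring
    rw [e1, ← mul_assoc]
    congr 1
    rw [← K.index_mul_card, hKi, Nat.cast_mul, mul_comm]
  have hd := mul_left_cancel₀ hn0 hdiff
  have : ((m : ℤ) - m' : ℤ) = coeff χ ψ := by exact_mod_cast hd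
  omega

open Classical in
/-- The bounds. -/
theorem exists_indicator (h : Semireg P) (hM : Cfsg.IsPModular 2 M)
    (hsq : ∀ w ∈ (P : Subgroup G), w * w = 1) [Fintype (Orb P)] {χ : IrrCharacter G}
    (hχ : χ ∈ Cfsg.principalBlock M G) (hne : χ ≠ trivChar G) :
    ∃ e : ℤ, FSIndicator.nu (χ : G → ℂ) = e ∧ (e = 0 ∨ e = 1 ∨ e = -1) ∧
      (0 ≤ e + ∑ o : Orb P, oc χ o) ∧
      ∀ o : Orb P, (Fintype.card (Orb P) : ℤ) * oc χ o ≤ e + ∑ u : Orb P, oc χ u := by
  obtain ⟨e, he, he3⟩ : ∃ e : ℤ, FSIndicator.nu (χ : G → ℂ) = e ∧ (e = 0 ∨ e = 1 ∨ e = -1) := by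
    rcases FSIndicator.nu_irr χ with ⟨-, h1 | h1⟩ | ⟨-, h0⟩
    exacts [⟨1, by simp [h1], by simp⟩, ⟨-1, by simp [h1], by simp⟩, ⟨0, by simp [h0], by simp⟩]
  set J := Finset.univ.filter fun t : G => t * t = 1 ∧ t ≠ 1 with hJ
  -- the count as a sum over the involutions
  have hswap : ∀ φ : IrrCharacter G, (Nat.card G : ℂ) * Cfsg.classInner invs (φ : G → ℂ) =
      ∑ t ∈ J, ∑ c : Subgroup.centralizer ({t} : Set G), conj ((φ : G → ℂ) (c : G)) := by
    intro φ
    rw [Cfsg.classInner, mul_inv_cancel_left₀ (Nat.cast_ne_zero.2 Nat.card_pos.ne')]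
    simp only [invs, Finset.card_filter, Nat.cast_sum, Nat.cast_ite, Nat.cast_one, Nat.cast_zero,
      Finset.sum_mul, ite_mul, one_mul, zero_mul]
    rw [Finset.sum_comm, hJ, Finset.sum_filter]
    refine Finset.sum_congr rfl fun t _ => ?_
    by_cases ht : t * t = 1 ∧ t ≠ 1
    · rw [if_pos ht, ← Finset.sum_filter]
      refine Finset.sum_subtype (p := fun g => g ∈ Subgroup.centralizer ({t} : Set G)) _
        (fun g => ?_) (fun g => conj ((φ : G → ℂ) g))
      simp only [Finset.mem_filter, Finset.mem_univ, true_and, ht,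
        Subgroup.mem_centralizer_singleton_iff]
      exact ⟨fun h => h.2.symm, fun h => ⟨ht.2, h.symm⟩⟩
    · rw [if_neg ht]
      exact Finset.sum_eq_zero fun g _ => if_neg fun hg => ht hg.1
  -- each term
  have hterm : ∀ t ∈ J, ∃ m : ℕ,
      (∑ c : Subgroup.centralizer ({t} : Set G), conj ((χ : G → ℂ) (c : G))) =
        ((Nat.card (Subgroup.centralizer ({t} : Set G)) * m : ℤ) : ℂ) ∧
      ∀ o : Orb P, oc χ o ≤ m := by
    intro t ht
    obtain ⟨ht2, ht1⟩ := (Finset.mem_filter.1 ht).2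
    obtain ⟨Q, hQ⟩ := (IsPGroup.of_card (p := 2) (n := 1)
      (show Nat.card (Subgroup.zpowers t) = 2 ^ 1 by
        rw [Nat.card_zpowers, orderOf_eq_prime (by rw [sq]; exact ht2) ht1, pow_one])).exists_le_sylow
    obtain ⟨c, hc⟩ := MulAction.exists_smul_eq G Q P
    have hyP : c * t * c⁻¹ ∈ (P : Subgroup G) := by
      rw [← hc]
      exact ⟨t, hQ (Subgroup.mem_zpowers t), rfl⟩
    set y := c * t * c⁻¹ with hy
    have hy1 : y ≠ 1 := fun e0 => ht1 (conj_eq_one_iff.1 e0)
    obtain ⟨m, hm, hle⟩ := exists_mult_centralizer h hM hχ hyP hy1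
    let f : Subgroup.centralizer ({t} : Set G) ≃ Subgroup.centralizer ({y} : Set G) :=
      { toFun := fun s => ⟨c * s * c⁻¹, Subgroup.mem_centralizer_singleton_iff.2 (by
          have := Subgroup.mem_centralizer_singleton_iff.1 s.2
          show c * s * c⁻¹ * (c * t * c⁻¹) = c * t * c⁻¹ * (c * s * c⁻¹)
          calc c * s * c⁻¹ * (c * t * c⁻¹) = c * ((s : G) * t) * c⁻¹ := by group
            _ = _ := by rw [this]; group)⟩
        invFun := fun s => ⟨c⁻¹ * s * c, Subgroup.mem_centralizer_singleton_iff.2 (by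
          have : (s : G) * (c * t * c⁻¹) = c * t * c⁻¹ * s :=
            Subgroup.mem_centralizer_singleton_iff.1 s.2
          calc c⁻¹ * s * c * t = c⁻¹ * ((s : G) * (c * t * c⁻¹)) * c := by group
            _ = _ := by rw [this]; group)⟩
        left_inv := fun s => Subtype.ext (by simp [mul_assoc])
        right_inv := fun s => Subtype.ext (by simp [mul_assoc]) }
    refine ⟨m, ?_, fun o => hle (rep o)⟩
    push_cast
    rw [Nat.card_congr f, ← hm, ← f.sum_comp]
    refine Finset.sum_congr rfl fun s _ => ?_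
    show _ = conj ((χ : G → ℂ) (c * s * c⁻¹))
    rw [Characters.isClassFunction_of_isIrr χ.2]
  choose m hm hmo using hterm
  -- the weights
  have hweight : ((∑ t ∈ J, Nat.card (Subgroup.centralizer ({t} : Set G)) : ℕ) : ℂ) =
      (Nat.card G : ℂ) * (Fintype.card (Orb P) : ℂ) := by
    have h1 := hswap (trivChar G)
    rw [classInner_invs_eq h hM hsq trivChar_mem, if_pos rfl] at h1
    have hnu : FSIndicator.nu ((trivChar G : IrrCharacter G) : G → ℂ) = 1 := by
      simp [FSIndicator.nu, trivChar, Nat.card_eq_fintype_card]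
    rw [hnu, map_one, sub_self, zero_add] at h1
    simp only [oc_trivChar, Int.cast_one, Finset.sum_const, Finset.card_univ, nsmul_one] at h1
    rw [h1, Nat.cast_sum]
    refine Finset.sum_congr rfl fun t _ => ?_
    simp [trivChar, Nat.card_eq_fintype_card]
  have hsumeq : ((Nat.card G : ℤ) * (e + ∑ o : Orb P, oc χ o)) =
      ∑ t ∈ J.attach, (Nat.card (Subgroup.centralizer ({(t : G)} : Set G)) : ℤ) * m t t.2 := by
    refine Int.cast_injective (α := ℂ) ?_
    have h1 := hswap χ
    rw [classInner_invs_eq h hM hsq hχ, if_neg hne, sub_zero, he, map_intCast,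
      ← Finset.sum_attach J] at h1
    simp only [Int.cast_mul, Int.cast_natCast, Int.cast_add, Int.cast_sum]
    rw [h1]
    exact Finset.sum_congr rfl fun t _ => by rw [hm t t.2]; push_cast; rfl
  have hG : (0 : ℤ) < Nat.card G := by exact_mod_cast Nat.card_pos
  refine ⟨e, he, he3, ?_, fun o => ?_⟩
  · refine nonneg_of_mul_nonneg_right ?_ hG
    rw [hsumeq]
    exact Finset.sum_nonneg fun t _ => by positivity
  · refine le_of_mul_le_mul_left ?_ hG
    have hw : (Nat.card G : ℤ) * Fintype.card (Orb P) =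
        ∑ t ∈ J.attach, (Nat.card (Subgroup.centralizer ({(t : G)} : Set G)) : ℤ) := by
      rw [Finset.sum_attach J (fun t => (Nat.card (Subgroup.centralizer ({t} : Set G)) : ℤ))]
      refine Int.cast_injective (α := ℂ) ?_
      push_cast at hweight ⊢
      exact hweight.symm
    rw [hsumeq, ← mul_assoc, hw, Finset.sum_mul]
    exact Finset.sum_le_sum fun t _ => mul_le_mul_of_nonneg_left (hmo t t.2 o) (by positivity)

end CfsgLib.RankOneInvolution
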