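import Cfsg.Agent.RankOneInvolution.Semireg

/-!
# An inertial group of prime order with a fixed subgroup

`P = F × V` with the inertial group trivial on `F` and transitive on the nonidentity elements of `V`.
The centralizers of the elements of `F` have rank `|V| - 1`; the column at a free involution then
determines the size of the principal block.
-/

set_option autoImplicit false
set_option linter.unusedSectionVars false
set_option linter.style.haveILetI false

namespace CfsgLib.RankOneInvolution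

open Cfsg CfsgLib.Blocks CfsgLib.PrincipalBlock CfsgLib.BlocksFrobenius CfsgLib.BlockPairing
open scoped ComplexConjugate commutatorElement

universe u

variable {G : Type u} [Group G] [Fintype G] [Fact (Nat.Prime 2)]

/-- `P = F × V`. -/
structure Fixed (P : Sylow 2 G) (F V : Subgroup G) : Prop where
  hab : IsMulCommutative (P : Subgroup G)
  leF : F ≤ (P : Subgroup G)
  leV : V ≤ (P : Subgroup G)
  fix : ∀ f ∈ aut P, ∀ w : (P : Subgroup G), (w : G) ∈ F → f w = w
  free : ∀ f ∈ aut P, ∀ w : (P : Subgroup G), (w : G) ∉ F → f w = w → f = 1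
  inf : ∀ v ∈ V, v ∈ F → v = 1
  card : Nat.card F * Nat.card V = Nat.card (P : Subgroup G)
  commV : ∀ n ∈ Subgroup.normalizer ((P : Subgroup G) : Set G), ∀ w ∈ (P : Subgroup G), ⁅w, n⁆ ∈ V
  genV : ∀ v ∈ V, ∃ w ∈ (P : Subgroup G),
    ∃ n ∈ Subgroup.normalizer ((P : Subgroup G) : Set G), ⁅w, n⁆ = v
  stabV : ∀ n ∈ Subgroup.normalizer ((P : Subgroup G) : Set G), ∀ v ∈ V, n * v * n⁻¹ ∈ V

theorem exists_fixed (P : Sylow 2 G) (hab : IsMulCommutative (P : Subgroup G))
    (hp : (Nat.card (aut P)).Prime) :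
    ∃ (F V : Subgroup G) (a : MulAut (P : Subgroup G)), a ∈ aut P ∧ a ≠ 1 ∧ Fixed P F V ∧
      ∀ w : (P : Subgroup G), a w = w ↔ (w : G) ∈ F := by
  haveI := hab
  haveI : Fact (Nat.card (aut P)).Prime := ⟨hp⟩
  haveI : Nontrivial (aut P) := Finite.one_lt_card_iff_nontrivial.1 hp.one_lt
  obtain ⟨⟨a, ha⟩, ha1⟩ := exists_ne (1 : aut P)
  have hgen : ∀ f ∈ aut P, ∃ j : ℕ, a ^ j = f := by
    intro f hf
    have h1 := mem_zpowers_of_prime_card (G := aut P) (g := ⟨a, ha⟩) (g' := ⟨f, hf⟩)
      (rfl : Nat.card (aut P) = Nat.card (aut P)) ha1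
    rw [← mem_powers_iff_mem_zpowers] at h1
    obtain ⟨j, hj⟩ := h1
    exact ⟨j, congrArg Subtype.val hj⟩
  set φ : (P : Subgroup G) →* (P : Subgroup G) :=
    { toFun := fun w => w * (a w)⁻¹
      map_one' := by simp
      map_mul' := fun x y => by rw [map_mul, mul_inv_rev, mul_comm' (a y)⁻¹ (a x)⁻¹,
        (show Commute y (a x)⁻¹ from mul_comm' _ _).mul_mul_mul_comm] } with hφ
  have hφapp : ∀ w, φ w = w * (a w)⁻¹ := fun w => rfl
  have hker : ∀ w, w ∈ φ.ker ↔ a w = w := fun w => by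
    rw [MonoidHom.mem_ker, hφapp, mul_inv_eq_one, eq_comm]
  set F := φ.ker.map (P : Subgroup G).subtype with hF
  set V := φ.range.map (P : Subgroup G).subtype with hV
  have hmemF : ∀ w : (P : Subgroup G), (w : G) ∈ F ↔ a w = w := by
    intro w
    rw [hF, ← hker]
    constructor
    · rintro ⟨w', hw', e⟩
      exact (Subtype.ext e : w' = w) ▸ hw'
    · exact fun hw => ⟨w, hw, rfl⟩
  have hfixpow : ∀ (j : ℕ) (w : (P : Subgroup G)), a w = w → (a ^ j) w = w := by
    intro j w hw
    induction j with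
    | zero => rfl
    | succ j ih => rw [pow_succ, MulAut.mul_apply, hw, ih]
  have hinvariant : ∀ (j : ℕ), ∀ v ∈ φ.range, (a ^ j) v ∈ φ.range := by
    intro j
    induction j with
    | zero => exact fun v hv => hv
    | succ j ih =>
      rintro v ⟨w, rfl⟩
      rw [pow_succ, MulAut.mul_apply]
      refine ih _ ⟨a w, ?_⟩
      rw [hφapp, hφapp, map_mul, map_inv]
  have hcommrange : ∀ (j : ℕ) (w : (P : Subgroup G)), w * ((a ^ j) w)⁻¹ ∈ φ.range := by
    intro j
    induction j with
    | zero => intro w; simp [one_mem]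
    | succ j ih =>
      intro w
      rw [pow_succ, MulAut.mul_apply,
        show w * ((a ^ j) (a w))⁻¹ = φ w * (a w * ((a ^ j) (a w))⁻¹) by rw [hφapp]; group]
      exact mul_mem ⟨w, rfl⟩ (ih _)
  have hval : ∀ (n : G) (hn : n ∈ Subgroup.normalizer ((P : Subgroup G) : Set G))
      (w : (P : Subgroup G)), ⁅(w : G), n⁆ =
        ((w * (Subgroup.normalizerMonoidHom (P : Subgroup G) ⟨n, hn⟩ w)⁻¹ :
          (P : Subgroup G)) : G) := fun n hn w => by
    rw [commutatorElement_def, Subgroup.coe_mul, Subgroup.coe_inv, coe_aut_apply]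
    group
  refine ⟨F, V, a, ha, fun e => ha1 (Subtype.ext e), ?_, fun w => (hmemF w).symm⟩
  refine ⟨hab, Subgroup.map_subtype_le _, Subgroup.map_subtype_le _, ?_, ?_, ?_, ?_, ?_, ?_, ?_⟩
  · intro f hf w hw
    obtain ⟨j, rfl⟩ := hgen f hf
    exact hfixpow j w ((hmemF w).1 hw)
  · intro f hf w hw hfw
    by_contra hne
    have hf1 : (⟨f, hf⟩ : aut P) ≠ 1 := fun e => hne (congrArg Subtype.val e)
    have h1 := mem_zpowers_of_prime_card (G := aut P) (g := ⟨f, hf⟩) (g' := ⟨a, ha⟩)
      (rfl : Nat.card (aut P) = Nat.card (aut P)) hf1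
    rw [← mem_powers_iff_mem_zpowers] at h1
    obtain ⟨j, hj⟩ := h1
    have hj' : f ^ j = a := congrArg Subtype.val hj
    refine hw ((hmemF w).2 ?_)
    rw [← hj']
    clear hj hj'
    induction j with
    | zero => rfl
    | succ j ih => rw [pow_succ, MulAut.mul_apply, hfw, ih]
  · rintro _ ⟨v, ⟨w, rfl⟩, rfl⟩ hvF
    have hfix : a (φ w) = φ w := (hmemF _).1 hvF
    have hstep : ∀ j : ℕ, (a ^ j) w = (φ w)⁻¹ ^ j * w := by
      intro j
      induction j with
      | zero => simp
      | succ j ih =>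
        rw [pow_succ', MulAut.mul_apply, ih, map_mul, map_pow, map_inv, hfix, pow_succ, mul_assoc]
        congr 1
        rw [hφapp, mul_inv_rev, inv_inv, mul_assoc, inv_mul_cancel, mul_one]
    set p := Nat.card (aut P) with hpdef
    have hap : a ^ p = 1 := by
      have := pow_card_eq_one' (G := aut P) (x := ⟨a, ha⟩)
      exact congrArg Subtype.val this
    have h1 := hstep p
    rw [hap, MulAut.one_apply, right_eq_mul, inv_pow, inv_eq_one] at h1
    refine congrArg Subtype.val (show φ w = 1 from ?_)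
    obtain ⟨k, hk⟩ := P.2 (φ w)
    refine orderOf_eq_one_iff.1 (Nat.dvd_one.1 ?_)
    have hcop : Nat.Coprime (2 ^ k) p :=
      Nat.Coprime.pow_left k (Nat.prime_two.coprime_iff_not_dvd.2 (not_two_dvd_card_aut hab))
    rw [← hcop.gcd_eq_one]
    exact Nat.dvd_gcd (orderOf_dvd_of_pow_eq_one hk) (orderOf_dvd_of_pow_eq_one h1)
  · rw [hF, hV, Subgroup.card_map_of_injective (Subgroup.subtype_injective _),
      Subgroup.card_map_of_injective (Subgroup.subtype_injective _),
      ← Subgroup.index_ker φ, Subgroup.card_mul_index]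
  · intro n hn w hw
    obtain ⟨j, hj⟩ := hgen _ ⟨⟨n, hn⟩, rfl⟩
    have e := hval n hn ⟨w, hw⟩
    rw [← hj] at e
    exact ⟨_, hcommrange j ⟨w, hw⟩, e.symm⟩
  · rintro _ ⟨v, ⟨w, rfl⟩, rfl⟩
    obtain ⟨⟨n, hn⟩, hna⟩ := ha
    refine ⟨w, w.2, n, hn, ?_⟩
    rw [hval n hn w, hna]
    rfl
  · rintro n hn _ ⟨v, hv, rfl⟩
    obtain ⟨j, hj⟩ := hgen _ ⟨⟨n, hn⟩, rfl⟩
    refine ⟨_, hinvariant j v hv, ?_⟩
    rw [hj]
    rfl

namespace Fixed

variable {P : Sylow 2 G} {F V : Subgroup G} (h : Fixed P F V)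
include h

theorem aut_mem {f : MulAut (P : Subgroup G)} (hf : f ∈ aut P) {w : (P : Subgroup G)}
    (hw : (w : G) ∈ V) : ((f w : (P : Subgroup G)) : G) ∈ V := by
  obtain ⟨⟨n, hn⟩, rfl⟩ := hf
  rw [coe_aut_apply]
  exact h.stabV n hn _ hw

theorem exists_mul_eq {x : G} (hx : x ∈ (P : Subgroup G)) : ∃ f ∈ F, ∃ v ∈ V, f * v = x := by
  let φ : F × V → (P : Subgroup G) := fun a => ⟨a.1 * a.2, mul_mem (h.leF a.1.2) (h.leV a.2.2)⟩
  have hφ : Function.Bijective φ := by
    refine (Nat.bijective_iff_injective_and_card φ).2 ⟨fun a b hab => ?_, ?_⟩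
    · have e : (a.1 : G) * a.2 = b.1 * b.2 := congrArg Subtype.val hab
      have e' : (b.1 : G)⁻¹ * a.1 = b.2 * (a.2 : G)⁻¹ := by
        rw [eq_mul_inv_iff_mul_eq, mul_assoc, e, inv_mul_cancel_left]
      have h1 := h.inf _ (mul_mem b.2.2 (inv_mem a.2.2))
        (e' ▸ mul_mem (inv_mem b.1.2) a.1.2)
      refine Prod.ext (Subtype.ext ?_) (Subtype.ext (mul_inv_eq_one.1 h1).symm)
      rw [h1, inv_mul_eq_one] at e'
      exact e'.symm
    · rw [Nat.card_prod, h.card]
  obtain ⟨⟨f, v⟩, e⟩ := hφ.2 ⟨x, hx⟩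
  exact ⟨f, f.2, v, v.2, congrArg Subtype.val e⟩

theorem transitive (hfull : Nat.card (aut P) + 1 = Nat.card V) {v v' : G} (hv : v ∈ V)
    (hv1 : v ≠ 1) (hv' : v' ∈ V) (hv1' : v' ≠ 1) :
    ∃ f ∈ aut P, ((f ⟨v, h.leV hv⟩ : (P : Subgroup G)) : G) = v' := by
  classical
  haveI := Fintype.ofFinite V
  let φ : aut P → {w : V // w ≠ 1} := fun f =>
    ⟨⟨_, h.aut_mem f.2 (w := ⟨v, h.leV hv⟩) hv⟩, fun e => hv1 (congrArg Subtype.val
      (f.1.injective ((Subtype.ext (congrArg (fun z : V => (z : G)) e) : f.1 ⟨v, h.leV hv⟩ = 1).trans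
        (map_one f.1).symm)))⟩
  have hφ : Function.Bijective φ := by
    refine (Nat.bijective_iff_injective_and_card φ).2 ⟨fun f g e => ?_, ?_⟩
    · have e' : f.1 ⟨v, h.leV hv⟩ = g.1 ⟨v, h.leV hv⟩ :=
        Subtype.ext (congrArg (fun w => ((w.1 : V) : G)) e)
      have := h.free _ (mul_mem (inv_mem g.2) f.2) ⟨v, h.leV hv⟩ (fun hm => hv1 (h.inf v hv hm))
        (by rw [MulAut.mul_apply, e', ← MulAut.mul_apply, inv_mul_cancel, MulAut.one_apply])
      exact Subtype.ext (inv_mul_eq_one.1 this).symm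
    · rw [Nat.card_eq_fintype_card (α := {w : V // w ≠ 1}), Fintype.card_subtype_compl,
        Fintype.card_subtype_eq, ← Nat.card_eq_fintype_card]
      omega
  obtain ⟨f, hf⟩ := hφ.2 ⟨⟨v', hv'⟩, fun e => hv1' (congrArg Subtype.val e)⟩
  exact ⟨f, f.2, congrArg (fun w => ((w.1 : V) : G)) hf⟩

theorem sq_eq_one (hfull : Nat.card (aut P) + 1 = Nat.card V) {v : G} (hv : v ∈ V) :
    v * v = 1 := by
  by_cases hv1 : v = 1
  · rw [hv1, one_mul]
  have h2 : 2 ∣ Nat.card V := by
    rcases Nat.even_or_odd (Nat.card (aut P)) with he | ho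
    · exact absurd (even_iff_two_dvd.1 he) (not_two_dvd_card_aut h.hab)
    · rw [← hfull]; exact even_iff_two_dvd.1 ho.add_one
  obtain ⟨⟨t, htV⟩, ht⟩ := exists_prime_orderOf_dvd_card' 2 h2
  rw [Subgroup.orderOf_mk] at ht
  have ht1 : t ≠ 1 := fun e => by rw [e, orderOf_one] at ht; omega
  obtain ⟨f, -, e⟩ := h.transitive hfull htV ht1 hv hv1
  rw [← e, ← Subgroup.coe_mul, ← map_mul,
    show (⟨t, h.leV htV⟩ : (P : Subgroup G)) * ⟨t, h.leV htV⟩ = 1 from
      Subtype.ext (show t * t = 1 by have := pow_orderOf_eq_one t; rwa [ht, sq] at this),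
    map_one]
  rfl

/-- At a point of `F` the residual of the centralizer meets `P` in `V`. -/
theorem inf_pResidual {u : G} (hu : u ∈ F)
    (hPH : (P : Subgroup G) ≤ Subgroup.centralizer ({u} : Set G)) :
    ((P.subtype hPH : Sylow 2 (Subgroup.centralizer ({u} : Set G))) :
      Subgroup (Subgroup.centralizer ({u} : Set G))) ⊓
      Cfsg.pResidual 2 (Subgroup.centralizer ({u} : Set G)) =
        V.subgroupOf (Subgroup.centralizer ({u} : Set G)) := by
  set H := Subgroup.centralizer ({u} : Set G) with hH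
  let P' : Sylow 2 H := P.subtype hPH
  have hc : IsMulCommutative (P' : Subgroup H) :=
    ⟨⟨fun a b => Subtype.ext (Subtype.ext (mul_comm_mem h.hab a.2 b.2))⟩⟩
  rw [CfsgLib.Transfer.inf_pResidual_eq_commutator_normalizer P' hc]
  refine le_antisymm (Subgroup.commutator_le.2 fun p hp g hg => ?_) fun x hx => ?_
  · have hgN : (g : G) ∈ Subgroup.normalizer ((P : Subgroup G) : Set G) := by
      rw [Subgroup.mem_normalizer_iff]
      intro x
      constructor
      · intro hx
        exact ((Subgroup.mem_normalizer_iff.1 hg) ⟨x, hPH hx⟩).1 hx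
      · intro hx
        have hxH : x ∈ H := by
          have := mul_mem (mul_mem (inv_mem g.2) (hPH hx)) g.2
          simpa [mul_assoc] using this
        exact ((Subgroup.mem_normalizer_iff.1 hg) ⟨x, hxH⟩).2 hx
    rw [Subgroup.mem_subgroupOf]
    exact h.commV (g : G) hgN (p : G) hp
  · rw [Subgroup.mem_subgroupOf] at hx
    obtain ⟨w, hw, n, hn, e⟩ := h.genV _ hx
    have hnH : n ∈ H := Subgroup.mem_centralizer_singleton_iff.2 (mul_inv_eq_iff_eq_mul.1
      ((coe_aut_apply hn ⟨u, h.leF hu⟩).symm.trans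
        (congrArg Subtype.val (h.fix _ ⟨⟨n, hn⟩, rfl⟩ ⟨u, h.leF hu⟩ hu))))
    have hwP : (⟨w, hPH hw⟩ : H) ∈ (P' : Subgroup H) := hw
    have hnN' : (⟨n, hnH⟩ : H) ∈ Subgroup.normalizer ((P' : Subgroup H) : Set H) := by
      rw [Subgroup.mem_normalizer_iff]
      exact fun y => Subgroup.mem_normalizer_iff.1 hn (y : G)
    have e' : x = ⁅(⟨w, hPH hw⟩ : H), (⟨n, hnH⟩ : H)⁆ := Subtype.ext e.symm
    rw [e']
    exact Subgroup.commutator_mem_commutator hwP hnN'

variable {M : Ideal AlgInt} [M.IsPrime]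

open Classical in
/-- The rank at a point of `F`. -/
theorem rank (hM : Cfsg.IsPModular 2 M) (hfull : Nat.card (aut P) + 1 = Nat.card V)
    (hcase : Nat.card V = 4 ∨ (Nat.card F = 2 ∧ Nat.card V = 8)) {u : G} (hu : u ∈ F)
    (hu1 : u ≠ 1) :
    Cfsg.blockRank 2 (Cfsg.principalBlock M (Subgroup.centralizer ({u} : Set G))) =
      Nat.card V - 1 := by
  have hPH := le_centralizer h.hab (h.leF hu)
  set H := Subgroup.centralizer ({u} : Set G) with hH
  haveI : Fintype H := Fintype.ofFinite H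
  let P' : Sylow 2 H := P.subtype hPH
  set K := Cfsg.pResidual 2 H with hK
  haveI : K.Normal := by rw [hK]; infer_instance
  haveI : Fintype K := Fintype.ofFinite K
  have hinf : (P' : Subgroup H) ⊓ K = V.subgroupOf H := h.inf_pResidual hu hPH
  have hVH : V ≤ H := h.leV.trans hPH
  have hidx := CfsgLib.Transfer.exists_index_pResidual_eq_pow (p := 2) (G := H)
  -- the Sylow subgroup of `K`
  let Q0 : Subgroup K := ((P' : Subgroup H) ⊓ K).subgroupOf K
  have hQ0 : IsPGroup 2 Q0 :=
    ((P'.isPGroup'.to_le (inf_le_left : (P' : Subgroup H) ⊓ K ≤ _))).of_equiv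
      (Subgroup.subgroupOfEquivOfLe inf_le_right).symm
  let Q : Sylow 2 K := hQ0.toSylow (by
    show ¬ 2 ∣ Q0.index
    rw [show Q0.index = ((P' : Subgroup H) ⊓ K).relIndex K from rfl, Subgroup.inf_relIndex_right]
    exact CfsgLib.Transfer.not_dvd_relIndex_of_normal P' K)
  have hQmem : ∀ q : K, q ∈ (Q : Subgroup K) ↔ ((q : H) : G) ∈ V := fun q => by
    show q ∈ ((P' : Subgroup H) ⊓ K).subgroupOf K ↔ _
    rw [hinf, Subgroup.mem_subgroupOf, Subgroup.mem_subgroupOf]
  have hQcard : Nat.card Q = Nat.card V := by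
    show Nat.card Q0 = _
    rw [Nat.card_congr (Subgroup.subgroupOfEquivOfLe (inf_le_right :
      (P' : Subgroup H) ⊓ K ≤ K)).toEquiv, hinf,
      Nat.card_congr (Subgroup.subgroupOfEquivOfLe hVH).toEquiv]
  have hexp : ∀ q : Q, q * q = 1 := fun q =>
    Subtype.ext (Subtype.ext (Subtype.ext (h.sq_eq_one hfull ((hQmem _).1 q.2))))
  have hQab : IsMulCommutative (Q : Subgroup K) :=
    ⟨⟨fun a b => Subtype.ext (Subtype.ext (Subtype.ext
      (mul_comm_mem h.hab (h.leV ((hQmem _).1 a.2)) (h.leV ((hQmem _).1 b.2)))))⟩⟩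
  have hconjK : ∀ q q' : (Q : Subgroup K), q ≠ 1 → q' ≠ 1 → IsConj (q : K) (q' : K) := by
    intro q q' hq hq'
    obtain ⟨f, hf, e⟩ := h.transitive hfull ((hQmem _).1 q.2)
      (fun e => hq (Subtype.ext (Subtype.ext (Subtype.ext e))))
      ((hQmem _).1 q'.2) (fun e => hq' (Subtype.ext (Subtype.ext (Subtype.ext e))))
    obtain ⟨⟨n, hn⟩, rfl⟩ := hf
    rw [coe_aut_apply] at e
    have hnH : n ∈ H := Subgroup.mem_centralizer_singleton_iff.2 (mul_inv_eq_iff_eq_mul.1
      ((coe_aut_apply hn ⟨u, h.leF hu⟩).symm.trans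
        (congrArg Subtype.val (h.fix _ ⟨⟨n, hn⟩, rfl⟩ ⟨u, h.leF hu⟩ hu))))
    obtain ⟨a, ha, k, hk, hak⟩ : ∃ a ∈ (P' : Subgroup H), ∃ k ∈ K, a * k = ⟨n, hnH⟩ := by
      have : (⟨n, hnH⟩ : H) ∈ (P' : Subgroup H) ⊔ K := by
        rw [CfsgLib.Transfer.sylow_sup_pResidual P']; trivial
      exact Subgroup.mem_sup_of_normal_right.1 this
    refine isConj_iff.2 ⟨⟨k, hk⟩, Subtype.ext (Subtype.ext ?_)⟩
    show (k : G) * (((q : K) : H) : G) * (k : G)⁻¹ = (((q' : K) : H) : G)
    have e1 : (k : G) = (a : G)⁻¹ * n := by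
      rw [eq_inv_mul_iff_mul_eq]; exact congrArg Subtype.val hak
    have haP : (a : G) ∈ (P : Subgroup G) := ha
    rw [e1, show (a : G)⁻¹ * n * (((q : K) : H) : G) * ((a : G)⁻¹ * n)⁻¹ =
      (a : G)⁻¹ * (n * (((q : K) : H) : G) * n⁻¹) * a by group, e, mul_assoc,
      mul_comm_mem h.hab (h.leV ((hQmem _).1 q'.2)) haP, inv_mul_cancel_left]
  have hrankK : Cfsg.blockRank 2 (Cfsg.principalBlock M K) = Nat.card V - 1 := by
    rcases hcase with hV4 | ⟨hF2, hV8⟩
    · rw [hV4]
      refine Cfsg.Agent.S4512.result M hM Q (hQcard.trans hV4) hexp fun s t hs ht => ?_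
      have hinv : ∀ s : K, orderOf s = 2 → ∃ q : (Q : Subgroup K), q ≠ 1 ∧ IsConj s (q : K) := by
        intro s hs
        obtain ⟨x, hx, hsx⟩ := exists_conj_mem Q (g := s) ⟨1, by rw [hs, pow_one]⟩
        refine ⟨⟨x, hx⟩, fun e => ?_, hsx⟩
        rw [show x = 1 from congrArg Subtype.val e, isConj_one_left] at hsx
        rw [hsx, orderOf_one] at hs
        omega
      obtain ⟨q, hq, hsq⟩ := hinv s hs
      obtain ⟨q', hq', htq⟩ := hinv t ht
      exact hsq.trans ((hconjK q q' hq hq').trans htq.symm)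
    · -- semiregular in `K`
      have hFu : ∀ f ∈ F, f = 1 ∨ f = u := by
        intro f hf
        by_contra hc
        push Not at hc
        haveI := Fintype.ofFinite F
        have h3 : ({1, ⟨u, hu⟩, ⟨f, hf⟩} : Finset F).card = 3 := by
          rw [Finset.card_insert_of_notMem, Finset.card_insert_of_notMem, Finset.card_singleton]
          · simp [Ne.symm hc.2]
          · simp [Ne.symm hu1, Ne.symm hc.1, Subtype.ext_iff]
        have := Finset.card_le_univ ({1, ⟨u, hu⟩, ⟨f, hf⟩} : Finset F)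
        rw [h3, ← Nat.card_eq_fintype_card, hF2] at this
        omega
      have hS : Semireg Q := by
        refine ⟨hQab, fun y hy hy1 => le_antisymm ?_ ?_⟩
        · rintro k ⟨hky, hkN⟩
          have hkyG : ((k : H) : G) * ((y : H) : G) = ((y : H) : G) * ((k : H) : G) :=
            congrArg (fun z : K => ((z : H) : G)) (Subgroup.mem_centralizer_singleton_iff.1 hky)
          have hkV : ∀ k : K, k ∈ Subgroup.normalizer ((Q : Subgroup K) : Set K) → ∀ v ∈ V,
              ((k : H) : G) * v * ((k : H) : G)⁻¹ ∈ V := by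
            intro k hk v hv
            have hvP : (⟨v, hVH hv⟩ : H) ∈ (P' : Subgroup H) ⊓ K := by
              rw [hinf]; exact hv
            exact (hQmem (k * ⟨⟨v, hVH hv⟩, hvP.2⟩ * k⁻¹)).1
              ((Subgroup.mem_normalizer_iff.1 hk _).1 ((hQmem ⟨⟨v, hVH hv⟩, hvP.2⟩).2 hv))
          have hkP : ∀ k : K, k ∈ Subgroup.normalizer ((Q : Subgroup K) : Set K) →
              ∀ w ∈ (P : Subgroup G), ((k : H) : G) * w * ((k : H) : G)⁻¹ ∈ (P : Subgroup G) := by
            intro k hk w hw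
            obtain ⟨f, hf, v, hv, rfl⟩ := h.exists_mul_eq hw
            have hkf : ((k : H) : G) * f * ((k : H) : G)⁻¹ = f := by
              rcases hFu f hf with rfl | rfl
              · group
              · rw [Subgroup.mem_centralizer_singleton_iff.1 (k : H).2, mul_inv_cancel_right]
            rw [show ((k : H) : G) * (f * v) * ((k : H) : G)⁻¹ =
              (((k : H) : G) * f * ((k : H) : G)⁻¹) * (((k : H) : G) * v * ((k : H) : G)⁻¹) by group,
              hkf]
            exact mul_mem (h.leF hf) (h.leV (hkV k hk v hv))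
          have hnP : ((k : H) : G) ∈ Subgroup.normalizer ((P : Subgroup G) : Set G) := by
            refine Subgroup.mem_normalizer_iff.2 fun w => ⟨hkP k hkN w, fun hw => ?_⟩
            have := hkP k⁻¹ (inv_mem hkN) _ hw
            simpa [mul_assoc] using this
          have hyV := (hQmem y).1 hy
          have := mem_centralizer_of_aut_eq_one hnP (h.free _ ⟨_, rfl⟩ ⟨_, h.leV hyV⟩
            (fun hm => hy1 (Subtype.ext (Subtype.ext (h.inf _ hyV hm))))
            (aut_fix_of_commute hnP hkyG))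
          exact Subgroup.mem_centralizer_iff.2 fun z hz => Subtype.ext (Subtype.ext
            (Subgroup.mem_centralizer_iff.1 this _ (h.leV ((hQmem z).1 hz))))
        · exact le_inf (Subgroup.centralizer_le (Set.singleton_subset_iff.2 hy))
            (Subgroup.centralizer_le_normalizer _)
      haveI := Fintype.ofFinite (Q : Subgroup K)
      haveI := finite_orb hS
      haveI : Nontrivial (Q : Subgroup K) :=
        Finite.one_lt_card_iff_nontrivial.1 (by rw [hQcard, hV8]; omega)
      obtain ⟨q, hq⟩ := exists_ne (1 : (Q : Subgroup K))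
      have hA : Nat.card (aut Q) = 7 := by
        have h1 : Nat.card {z : (Q : Subgroup K) // z ≠ 1} ≤ Nat.card (aut Q) := by
          refine Nat.card_le_card_of_surjective (fun f : aut Q =>
            (⟨f.1 q, fun e => hq (f.1.injective (by rw [e, map_one]))⟩ :
              {z : (Q : Subgroup K) // z ≠ 1})) fun z => ?_
          obtain ⟨f, hf, e⟩ := hS.exists_aut (hconjK q z.1 hq z.2)
          exact ⟨⟨f, hf⟩, Subtype.ext e⟩
        rw [Nat.card_eq_fintype_card (α := {z : (Q : Subgroup K) // z ≠ 1}),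
          Fintype.card_subtype_compl, Fintype.card_subtype_eq, ← Nat.card_eq_fintype_card,
          hQcard, hV8] at h1
        have hcard := card_orb_mul hS
        rw [hQcard, hV8] at hcard
        have hpos : 0 < Nat.card (aut Q) := Nat.card_pos
        rcases Nat.eq_zero_or_pos (Nat.card (Orb Q)) with e | e
        · rw [e, zero_mul] at hcard; omega
        · have := Nat.le_mul_of_pos_left (Nat.card (aut Q)) e
          omega
      have hk8 := card_full hS hM (fun w hw => congrArg Subtype.val (hexp ⟨w, hw⟩))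
        (by rw [hA, hQcard, hV8])
        (by haveI : Fact (Nat.Prime 7) := ⟨by norm_num⟩
            exact isCyclic_of_prime_card hA)
      have hcount := count hM hQab (⊥ : Subgroup K) bot_le
        (fun f hf w hw => by
          rw [show w = 1 from Subtype.ext (Subgroup.mem_bot.1 hw), map_one])
        (fun f hf w hw hfw => by
          by_contra hne
          exact hw (Subgroup.mem_bot.2 (congrArg Subtype.val (hS.eq_one_of_fixed hf hne hfw))))
        0 (fun v hv hv1 => absurd (Subgroup.mem_bot.1 hv) hv1)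
      rw [hA, hk8, hQcard, hV8, Subgroup.card_bot] at hcount
      omega
  have hb : Cfsg.IsPBlock M (Cfsg.principalBlock M K) := isPBlock_principalBlock
  have h40 := Cfsg.Agent.S4640.result 2 M hM K hidx (Cfsg.principalBlock M K) hb
    (fun g => Cfsg.Agent.S4646.stabilizesBlock_principal K
      (Subgroup.normalizer_eq_top_iff.2 ‹K.Normal› ▸ Subgroup.mem_top g))
    (Cfsg.principalBlock M H) isPBlock_principalBlock
    ⟨trivChar H, trivChar_mem, trivChar K, trivChar_mem, by
      have : Cfsg.classInner (fun n : K => ((trivChar H : IrrCharacter H) : H → ℂ) n)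
          ((trivChar K : IrrCharacter K) : K → ℂ) = 1 :=
        CfsgLib.Characters.classInner_isIrr_self (trivChar K).2
      rw [this]
      exact one_ne_zero⟩
    (P' : Subgroup H) ((Cfsg.Agent.S4652.result 2 M hM _).2 ⟨P', rfl⟩)
    (fun x hx y hy => Subtype.ext (mul_comm_mem h.hab hx hy))
  rw [h40.2.2.2.2.2, hrankK]

open Classical in
/-- `1` when the 2-part fuses into `V`, `-1` otherwise. -/
noncomputable def lam (_h : Fixed P F V) (g : G) : ℂ :=
  if ∃ c : G, c * Star.pPart 2 g * c⁻¹ ∈ V then 1 else -1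

theorem lam_mul_self (g : G) : h.lam g * h.lam g = 1 := by
  classical
  rw [lam]; split_ifs <;> norm_num

theorem conj_lam (g : G) : conj (h.lam g) = h.lam g := by
  classical
  rw [lam]; split_ifs <;> simp

theorem isClassFunction_lam : Cfsg.IsClassFunction G h.lam := by
  classical
  intro g t
  have : (∃ c : G, c * Star.pPart 2 (t * g * t⁻¹) * c⁻¹ ∈ V) ↔
      ∃ c : G, c * Star.pPart 2 g * c⁻¹ ∈ V := by
    rw [Star.pPart_conj]
    constructor
    · rintro ⟨c, hc⟩
      exact ⟨c * t, by simpa [mul_assoc] using hc⟩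
    · rintro ⟨c, hc⟩
      exact ⟨c * t⁻¹, by simpa [mul_assoc] using hc⟩
  simp only [lam]
  split_ifs <;> simp_all

open Classical in
theorem lam_eq {g x : G} (hx : x ∈ (P : Subgroup G)) (hc : IsConj (Star.pPart 2 g) x) :
    h.lam g = if x ∈ V then 1 else -1 := by
  have : (∃ c : G, c * Star.pPart 2 g * c⁻¹ ∈ V) ↔ x ∈ V := by
    constructor
    · rintro ⟨c, hm⟩
      obtain ⟨f, hf, e⟩ := exists_aut_of_isConj h.hab (y := ⟨_, h.leV hm⟩) (y' := ⟨x, hx⟩)
        ((isConj_iff.2 ⟨c, rfl⟩ : IsConj (Star.pPart 2 g) _).symm.trans hc)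
      have := h.aut_mem hf (w := ⟨_, h.leV hm⟩) hm
      rwa [e] at this
    · intro hm
      obtain ⟨c, e⟩ := isConj_iff.1 hc
      exact ⟨c, e ▸ hm⟩
  simp only [lam]
  split_ifs <;> simp_all

open Classical in
theorem isGen_lam (hF2 : Nat.card F = 2) : Cfsg.IsGeneralizedCharacter G h.lam := by
  refine Characters.isGen_of_elementary h.isClassFunction_lam fun E q hq hE => ?_
  haveI : Fact q.Prime := ⟨hq⟩
  obtain ⟨Q, S, hsp⟩ := Star.exists_split (p := 2) (Star.isNilpotent_of_isElementary hE)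
  obtain ⟨R, hR⟩ := hsp.isP.exists_le_sylow
  obtain ⟨c, hc⟩ := MulAction.exists_smul_eq G R P
  have hQP : ∀ x ∈ Q, c * x * c⁻¹ ∈ (P : Subgroup G) := fun x hx => by
    rw [← hc]
    exact ⟨x, hR hx, rfl⟩
  let φ : Q →* (P : Subgroup G) :=
    { toFun := fun x => ⟨c * x * c⁻¹, hQP x x.2⟩
      map_one' := Subtype.ext (by simp)
      map_mul' := fun a b => Subtype.ext (by simp [mul_assoc]) }
  let f : ↥(P : Subgroup G) → ℂ := fun x => if (x : G) ∈ V then 1 else -1
  have hf : Cfsg.IsGeneralizedCharacter (P : Subgroup G) f := by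
    haveI : Fintype (P : Subgroup G) := Fintype.ofFinite _
    set V' := V.subgroupOf (P : Subgroup G) with hV'
    have h1 := Characters.isGen_sub
      (Characters.isGen_indFun V' (Characters.isGen_one (G := V')))
      (Characters.isGen_one (G := (P : Subgroup G)))
    convert h1 using 1
    funext x
    have hVcard : Nat.card V' = Nat.card V :=
      Nat.card_congr (Subgroup.subgroupOfEquivOfLe h.leV).toEquiv
    simp only [Pi.sub_apply, f, Cfsg.indFun]
    rw [Finset.sum_congr rfl (g := fun _ => if (x : G) ∈ V then (1 : ℂ) else 0) fun y _ => ?_,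
      Finset.sum_const, Finset.card_univ, ← Nat.card_eq_fintype_card, hVcard, nsmul_eq_mul,
      ← h.card, hF2]
    · have hV0 : (Nat.card V : ℂ) ≠ 0 := Nat.cast_ne_zero.2 Nat.card_pos.ne'
      push_cast
      split_ifs <;> field_simp <;> norm_num
    · have e : y⁻¹ * x * y = x := by
        rw [mul_assoc, show x * y = y * x from Subtype.ext (mul_comm_mem h.hab x.2 y.2),
          inv_mul_cancel_left]
      rw [e]
      by_cases hx : (x : G) ∈ V
      · rw [if_pos hx, Characters.extendByZero_of_mem V' _ (show x ∈ V' from hx)]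
      · rw [if_neg hx, Cfsg.extendByZero, Function.extend_apply' _ _ _ (by
          rintro ⟨a, rfl⟩
          exact hx a.2), Pi.zero_apply]
  have h2 := Characters.isGen_comp (φ.comp hsp.proj) hf
  convert h2 using 1
  funext e
  have he : IsConj (Star.pPart 2 (e : G)) (c * Star.pPart 2 (e : G) * c⁻¹) :=
    isConj_iff.2 ⟨c, rfl⟩
  exact h.lam_eq (hQP _ (hsp.pPart_mem e.2)) he

/-- Multiplying by the sign function keeps the principal block. -/
theorem classInner_lam_eq_zero (hM : Cfsg.IsPModular 2 M) {χ ψ : IrrCharacter G}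
    (hχ : χ ∈ Cfsg.principalBlock M G) (hψ : ψ ∉ Cfsg.principalBlock M G) :
    Cfsg.classInner (fun g => h.lam g * (χ : G → ℂ) g) (ψ : G → ℂ) = 0 := by
  classical
  rw [Cfsg.classInner, Star.sum_eq_sum_sections' (p := 2)]
  refine mul_eq_zero_of_right _ (Finset.sum_eq_zero fun x _ => ?_)
  split_ifs with hx
  · have h1 := BlocksCharsC.Sixteen.regInner_translate_eq_zero hM hx hχ hψ
    rw [regInner, mul_eq_zero] at h1
    have h' := h1.resolve_left (inv_ne_zero (Nat.cast_ne_zero.2 Nat.card_pos.ne'))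
    refine Eq.trans ?_ ((congrArg (h.lam x * ·) h').trans (mul_zero _))
    simp only [Finset.mul_sum]
    refine Finset.sum_congr rfl fun s _ => ?_
    by_cases hs : 2 ∣ orderOf s
    · rw [if_pos hs, if_pos hs, mul_zero]
    · rw [if_neg hs, if_neg hs, show h.lam (x * (s : G)) = h.lam x by
        rw [lam, lam, Star.pPart_mul_regular hx hs, Star.pPart_of_pElement hx]]
      ring
  · rfl

open Classical in
/-- The sign function pairs the members of the principal block. -/
theorem even_card (hM : Cfsg.IsPModular 2 M) (hF2 : Nat.card F = 2)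
    (hfull : Nat.card (aut P) + 1 = Nat.card V) :
    2 ∣ Nat.card (Cfsg.principalBlock M G) := by
  set B := Cfsg.principalBlock M G with hB
  have hnorm : ∀ χ : IrrCharacter G, Cfsg.classInner (fun g => h.lam g * (χ : G → ℂ) g)
      (fun g => h.lam g * (χ : G → ℂ) g) = 1 := by
    intro χ
    rw [← Characters.classInner_isIrr_self χ.2]
    simp only [Cfsg.classInner]
    refine congrArg _ (Finset.sum_congr rfl fun g _ => ?_)
    rw [map_mul, h.conj_lam, mul_mul_mul_comm, h.lam_mul_self, one_mul]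
  have hex : ∀ χ : B, ∃ (ψ : B) (ε : ℂ), (ε = 1 ∨ ε = -1) ∧
      ∀ g, h.lam g * (χ.1 : G → ℂ) g = ε * (ψ.1 : G → ℂ) g := by
    intro χ
    obtain ⟨ψ, ε, hε, he⟩ : ∃ (ψ : IrrCharacter G) (ε : ℂ), (ε = 1 ∨ ε = -1) ∧
        ∀ g, h.lam g * (χ.1 : G → ℂ) g = ε * (ψ : G → ℂ) g := by
      rcases Characters.gen_norm_one (Characters.isGen_mul (h.isGen_lam hF2)
        (Characters.isGen_of_isIrr χ.1.2)) (hnorm χ.1) with hi | hi
      · exact ⟨⟨_, hi⟩, 1, Or.inl rfl, fun g => (one_mul _).symm⟩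
      · exact ⟨⟨_, hi⟩, -1, Or.inr rfl, fun g => by simp⟩
    refine ⟨⟨ψ, ?_⟩, ε, hε, he⟩
    by_contra hψ
    have h1 := h.classInner_lam_eq_zero hM χ.2 hψ
    rw [show (fun g => h.lam g * (χ.1 : G → ℂ) g) = ε • (ψ : G → ℂ) from funext fun g => he g,
      Characters.classInner_smul_left, Characters.classInner_isIrr_self ψ.2, mul_one] at h1
    rcases hε with e | e <;> simp [e] at h1
  choose f ε hε hf using hex
  have hinv : ∀ χ, f (f χ) = χ := by
    intro χ
    have h1 : ((f (f χ)).1 : G → ℂ) = (ε (f χ) * ε χ) • (χ.1 : G → ℂ) := funext fun g => by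
      have e1 := hf (f χ) g
      have e2 := hf χ g
      have hl := h.lam_mul_self g
      have hb : ε (f χ) * ε (f χ) = 1 := by
        rcases hε (f χ) with b | b <;> simp [b]
      have ha : ε χ * ε χ = 1 := by
        rcases hε χ with a | a <;> simp [a]
      show ((f (f χ)).1 : G → ℂ) g = ε (f χ) * ε χ * (χ.1 : G → ℂ) g
      calc ((f (f χ)).1 : G → ℂ) g
          = (ε (f χ) * ε (f χ)) * (ε χ * ε χ) * ((f (f χ)).1 : G → ℂ) g := by
            rw [hb, ha, one_mul, one_mul]
        _ = ε (f χ) * ε χ * (ε χ * (ε (f χ) * ((f (f χ)).1 : G → ℂ) g)) := by ring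
        _ = ε (f χ) * ε χ * (h.lam g * (ε χ * ((f χ).1 : G → ℂ) g)) := by rw [← e1]; ring
        _ = ε (f χ) * ε χ * ((h.lam g * h.lam g) * (χ.1 : G → ℂ) g) := by rw [← e2]; ring
        _ = _ := by rw [hl, one_mul]
    have h2 := congrArg (fun θ => Cfsg.classInner θ (χ.1 : G → ℂ)) h1
    simp only [Characters.classInner_smul_left, Characters.classInner_irr,
      Characters.classInner_isIrr_self χ.1.2, mul_one] at h2
    by_contra hne
    rw [if_neg (fun e => hne (Subtype.ext e))] at h2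
    rcases hε χ with a | a <;> rcases hε (f χ) with b | b <;> rw [a, b] at h2 <;> norm_num at h2
  obtain ⟨u, hu, hu1⟩ : ∃ u ∈ F, u ≠ 1 := by
    by_contra hcon
    push Not at hcon
    rw [(Subgroup.eq_bot_iff_forall F).2 hcon, Subgroup.card_bot] at hF2
    omega
  obtain ⟨v, hv, hv1⟩ : ∃ v ∈ V, v ≠ 1 := by
    by_contra hcon
    push Not at hcon
    rw [(Subgroup.eq_bot_iff_forall V).2 hcon, Subgroup.card_bot] at hfull
    have : 0 < Nat.card (aut P) := Nat.card_pos
    omega
  have hvF : v ∉ F := fun hm => hv1 (h.inf v hv hm)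
  have huvF : u * v ∉ F := fun hm => hvF ((mul_mem_cancel_left hu).1 hm)
  have huvV : u * v ∉ V := fun hm => hu1 (h.inf u ((mul_mem_cancel_right hv).1 hm) hu)
  have hfu : u * u = 1 := by
    have := pow_card_eq_one' (G := F) (x := ⟨u, hu⟩)
    rw [hF2, sq] at this
    exact congrArg Subtype.val this
  have huv2 : u * v * (u * v) = 1 := by
    calc u * v * (u * v) = u * (v * u) * v := by group
      _ = u * (u * v) * v := by rw [mul_comm_mem h.hab (h.leV hv) (h.leF hu)]
      _ = (u * u) * (v * v) := by group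
      _ = 1 := by rw [hfu, h.sq_eq_one hfull hv, one_mul]
  obtain ⟨d₁, hd₁, -⟩ := exists_column hM h.hab (y := ⟨v, h.leV hv⟩) (h.sq_eq_one hfull hv)
    (fun e => hv1 (congrArg Subtype.val e)) (fun f hf hfv => h.free f hf _ hvF hfv)
  obtain ⟨d₂, hd₂, -⟩ := exists_column hM h.hab (y := ⟨u * v, mul_mem (h.leF hu) (h.leV hv)⟩) huv2
    (fun e => huvF ((show u * v = 1 from congrArg Subtype.val e) ▸ one_mem F))
    (fun f hf hfv => h.free f hf _ huvF hfv)
  have hfix : ∀ χ, f χ ≠ χ := by
    intro χ e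
    have e1 := hf χ v
    have e2 := hf χ (u * v)
    rw [e] at e1 e2
    have hpv : IsConj (Star.pPart 2 v) v := by
      rw [Star.pPart_of_pElement (isPow_of_mem (P := P) (h.leV hv))]
    have hpuv : IsConj (Star.pPart 2 (u * v)) (u * v) := by
      rw [Star.pPart_of_pElement (isPow_of_mem (P := P) (mul_mem (h.leF hu) (h.leV hv)))]
    rw [h.lam_eq (h.leV hv) hpv, if_pos hv] at e1
    rw [h.lam_eq (mul_mem (h.leF hu) (h.leV hv)) hpuv, if_neg huvV] at e2
    obtain ⟨a1, a2⟩ := hd₁ χ.1 χ.2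
    obtain ⟨b1, b2⟩ := hd₂ χ.1 χ.2
    simp only at a1 b1
    rw [a1] at e1
    rw [b1] at e2
    rcases hε χ with a | a <;> rw [a] at e1 e2
    · exact b2 (by exact_mod_cast (by linear_combination -e2 / 2 : (d₂ χ.1 : ℂ) = 0))
    · exact a2 (by exact_mod_cast (by linear_combination e1 / 2 : (d₁ χ.1 : ℂ) = 0))
  have hsum : ∑ _χ : B, (1 : ZMod 2) = 0 :=
    Finset.sum_involution (fun χ _ => f χ) (fun _ _ => (show (1 : ZMod 2) + 1 = 0 from rfl)) (fun χ _ _ => hfix χ)
      (fun χ _ => Finset.mem_univ _) (fun χ _ => hinv χ)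
  rw [Finset.sum_const, Finset.card_univ, nsmul_one, ZMod.natCast_eq_zero_iff_even,
    ← Nat.card_eq_fintype_card] at hsum
  exact even_iff_two_dvd.1 hsum

end Fixed

end CfsgLib.RankOneInvolution
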