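import Cfsg.Agent.RankOneInvolution.Roots
import Cfsg.Agent.BlocksFrobenius.Frame
import Cfsg.Agent.InvolColumn.Basic

/-!
# Indicators in the principal block: semiregular elementary abelian Sylow 2-subgroup

The multiplicity of `χ` in the permutation character on the involutions is
`nu χ - δ_{χ,1} + ∑ oc χ o`; as it is a sum of multiplicities this bounds the vectors `oc`.
-/

set_option autoImplicit false
set_option linter.unusedSectionVars false
set_option linter.style.haveILetI false

namespace CfsgLib.RankOneInvolution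

open Cfsg CfsgLib.Blocks CfsgLib.PrincipalBlock CfsgLib.BlocksFrobenius
open scoped ComplexConjugate

universe u

variable {G : Type u} [Group G] [Fintype G] [Fact (Nat.Prime 2)] {P : Sylow 2 G}
  {M : Ideal AlgInt} [M.IsPrime]

open Classical in
/-- In the centralizer of `y` each involution is conjugate under the complement to one element of
`P`. -/
theorem sum_invs_section (h : Semireg P) (hsq : ∀ w ∈ (P : Subgroup G), w * w = 1) {y : G}
    (hy : y ∈ (P : Subgroup G)) (hy1 : y ≠ 1) [Fintype (Subgroup.centralizer ({y} : Set G))]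
    (K : Subgroup (Subgroup.centralizer ({y} : Set G))) [K.Normal] (hK : ¬ 2 ∣ Nat.card K)
    (hKi : K.index = Nat.card (P : Subgroup G)) :
    ∑ k : Subgroup.centralizer ({y} : Set G), (if k ∈ K then invs (y * (k : G)) else 0) =
      (Nat.card K : ℂ) * ((Nat.card (P : Subgroup G) : ℂ) - 1) := by
  haveI := Fintype.ofFinite (P : Subgroup G)
  haveI := h.comm
  let C := Subgroup.centralizer ({y} : Set G)
  have hle : (P : Subgroup G) ≤ C := h.le_centralizer_singleton hy
  let ι : ↥(P : Subgroup G) → C := fun w => ⟨w, hle w.2⟩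
  have hKodd : ∀ k : C, k ∈ K → ¬ 2 ∣ orderOf k := fun k hk hd =>
    hK (hd.trans (Subgroup.orderOf_dvd_natCard K hk))
  have hPK : ∀ w : (P : Subgroup G), ι w ∈ K → w = 1 := fun w hw => by
    by_contra hne
    refine hKodd _ hw ?_
    rw [← Subgroup.orderOf_coe]
    exact dvd_orderOf_of_mem w.2 fun e => hne (Subtype.ext e)
  -- every class modulo `K` meets `P` once
  let π : ↥(P : Subgroup G) → C ⧸ K := fun w => (ι w : C ⧸ K)
  have hπmul : ∀ a b, π (a * b) = π a * π b := fun a b => rfl
  have hπ : Function.Bijective π := by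
    refine (Nat.bijective_iff_injective_and_card π).2 ⟨fun a b e => ?_, ?_⟩
    · refine inv_mul_eq_one.1 (hPK _ ?_)
      exact QuotientGroup.eq.1 e
    · rw [← Subgroup.index_eq_card, hKi]
  -- the involutions of `C`
  set J := Finset.univ.filter fun t : C => t * t = 1 ∧ t ≠ 1 with hJ
  have hJK : ∀ t ∈ J, t ∉ K := fun t ht htK => by
    obtain ⟨h1, h2⟩ := (Finset.mem_filter.1 ht).2
    exact hKodd t htK (by rw [orderOf_eq_prime (by rw [sq]; exact h1) h2])
  -- the conjugates of `ι w`
  have hfib : ∀ w : (P : Subgroup G), w ≠ 1 →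
      ∑ t ∈ J.filter (fun t : C => (t : C ⧸ K) = π w),
        ((Finset.univ.filter fun k : C => k ∈ K ∧ t * k = k * t).card : ℂ) = Nat.card K := by
    intro w hw
    set KF := Finset.univ.filter fun k : C => k ∈ K with hKF
    have hKF' : (Nat.card K : ℂ) = (KF.card : ℂ) := by
      rw [hKF, ← Fintype.card_subtype, ← Nat.card_eq_fintype_card]
    have hmaps : ∀ k ∈ KF, k * ι w * k⁻¹ ∈ J.filter (fun t : C => (t : C ⧸ K) = π w) := by
      intro k hk
      have hk' := (Finset.mem_filter.1 hk).2
      have hww : ι w * ι w = 1 := Subtype.ext (hsq _ w.2)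
      refine Finset.mem_filter.2 ⟨Finset.mem_filter.2 ⟨Finset.mem_univ _, ?_, fun e => hw ?_⟩, ?_⟩
      · calc k * ι w * k⁻¹ * (k * ι w * k⁻¹) = k * (ι w * ι w) * k⁻¹ := by group
          _ = 1 := by rw [hww]; group
      · have : ι w = 1 := conj_eq_one_iff.1 e
        exact Subtype.ext (congrArg Subtype.val this :)
      · rw [QuotientGroup.mk_mul, QuotientGroup.mk_mul, QuotientGroup.mk_inv,
          (QuotientGroup.eq_one_iff k).2 hk', one_mul, inv_one, mul_one]
    rw [hKF', Finset.card_eq_sum_card_fiberwise hmaps, Nat.cast_sum]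
    refine Finset.sum_congr rfl fun t ht => ?_
    obtain ⟨htJ, htπ⟩ := Finset.mem_filter.1 ht
    -- `t` is a conjugate by an element of `K`
    obtain ⟨k₀, hk₀, rfl⟩ : ∃ k₀ ∈ K, k₀ * ι w * k₀⁻¹ = t := by
      obtain ⟨ht2, ht1⟩ := (Finset.mem_filter.1 htJ).2
      have hp : IsPGroup 2 (Subgroup.zpowers t) := IsPGroup.of_card (n := 1)
        (by rw [Nat.card_zpowers, orderOf_eq_prime (by rw [sq]; exact ht2) ht1, pow_one])
      obtain ⟨Q, hQ⟩ := hp.exists_le_sylow
      obtain ⟨c, hc⟩ := MulAction.exists_smul_eq C Q (P.subtype hle)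
      have hmem : ((c * t * c⁻¹ : C) : G) ∈ (P : Subgroup G) := by
        have : c * t * c⁻¹ ∈ ((P.subtype hle : Sylow 2 C) : Subgroup C) := by
          rw [← hc]
          exact ⟨t, hQ (Subgroup.mem_zpowers t), rfl⟩
        exact this
      obtain ⟨a, ha⟩ := hπ.2 (c : C ⧸ K)
      have hac : (ι a)⁻¹ * c ∈ K := QuotientGroup.eq.1 ha
      set w' : (P : Subgroup G) := ⟨_, hmem⟩
      have hcw : c * t * c⁻¹ = ι w' := rfl
      have hcomm : ι a * ι w' = ι w' * ι a :=
        congrArg ι (mul_comm' a w')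
      have ht' : t = ((ι a)⁻¹ * c)⁻¹ * ι w' * ((ι a)⁻¹ * c) := by
        calc t = c⁻¹ * (c * t * c⁻¹) * c := by group
          _ = c⁻¹ * (ι w' * ι a) * ((ι a)⁻¹ * c) := by rw [hcw]; group
          _ = c⁻¹ * (ι a * ι w') * ((ι a)⁻¹ * c) := by rw [hcomm]
          _ = _ := by group
      have hww' : w' = w := by
        apply hπ.1
        rw [← htπ]
        conv_rhs => rw [ht']
        rw [QuotientGroup.mk_mul, QuotientGroup.mk_mul, QuotientGroup.mk_inv,
          (QuotientGroup.eq_one_iff _).2 hac, inv_one, one_mul, mul_one]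
      refine ⟨((ι a)⁻¹ * c)⁻¹, inv_mem hac, ?_⟩
      rw [inv_inv, ← hww', ← ht']
    refine congrArg _ (Finset.card_equiv (Equiv.mulRight k₀) fun k => ?_)
    simp only [Finset.mem_filter, Finset.mem_univ, true_and, Equiv.coe_mulRight, hKF]
    constructor
    · rintro ⟨hk, e⟩
      refine ⟨mul_mem hk hk₀, ?_⟩
      calc k * k₀ * ι w * (k * k₀)⁻¹ = (k * (k₀ * ι w * k₀⁻¹)) * k⁻¹ := by group
        _ = _ := by rw [← e]; group
    · rintro ⟨hk, e⟩
      refine ⟨(mul_mem_cancel_right hk₀).1 hk, ?_⟩
      calc k₀ * ι w * k₀⁻¹ * k = k * k₀ * ι w * (k * k₀)⁻¹ * k := by rw [e]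
        _ = _ := by group
  -- count the commuting pairs both ways
  have hterm : ∀ k : C, k ∈ K →
      invs (y * (k : G)) = ((J.filter fun t : C => t * k = k * t).card : ℂ) := by
    intro k hk
    refine congrArg Nat.cast (Finset.card_bij' (fun (t : G) ht => (⟨t, ?_⟩ : C))
      (fun (t : C) _ => (t : G)) (fun t ht => ?_) (fun t ht => ?_) (fun _ _ => rfl) (fun _ _ => rfl))
    · -- `t` commutes with the 2-part `y`
      obtain ⟨-, htc⟩ := (Finset.mem_filter.1 ht).2
      have hyk : Commute y (k : G) := (Subgroup.mem_centralizer_singleton_iff.1 k.2).symm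
      have hp := isPPart_of_mul (p := 2) hyk (isPow_of_mem hy)
        (by rw [Subgroup.orderOf_coe]; exact hKodd k hk)
      have h1 := isPPart_conj hp t
      rw [htc, mul_inv_cancel_right] at h1
      exact Subgroup.mem_centralizer_singleton_iff.2
        (mul_inv_eq_iff_eq_mul.1 (isPPart_unique Nat.prime_two h1 hp))
    · obtain ⟨⟨ht2, ht1⟩, htc⟩ := (Finset.mem_filter.1 ht).2
      refine Finset.mem_filter.2 ⟨Finset.mem_filter.2 ⟨Finset.mem_univ _, Subtype.ext ht2,
        fun e => ht1 (congrArg Subtype.val e)⟩, Subtype.ext ?_⟩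
      have hp := isPPart_of_mul (p := 2) (Subgroup.mem_centralizer_singleton_iff.1 k.2).symm
        (isPow_of_mem hy) (by rw [Subgroup.orderOf_coe]; exact hKodd k hk)
      have h1 := isPPart_conj hp t
      rw [htc, mul_inv_cancel_right] at h1
      have hty : t * y = y * t :=
        mul_inv_eq_iff_eq_mul.1 (isPPart_unique Nat.prime_two h1 hp)
      show t * (k : G) = (k : G) * t
      refine mul_left_cancel (a := y) ?_
      rw [← mul_assoc, ← hty, mul_assoc, htc, mul_assoc]
    · obtain ⟨htJ, htk⟩ := Finset.mem_filter.1 ht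
      obtain ⟨ht2, ht1⟩ := (Finset.mem_filter.1 htJ).2
      refine Finset.mem_filter.2 ⟨Finset.mem_univ _, ⟨congrArg Subtype.val ht2,
        fun e => ht1 (Subtype.ext e)⟩, ?_⟩
      have hty : (t : G) * y = y * t := Subgroup.mem_centralizer_singleton_iff.1 t.2
      rw [← mul_assoc, hty, mul_assoc, show (t : G) * k = k * t from congrArg Subtype.val htk,
        mul_assoc]
  calc ∑ k : C, (if k ∈ K then invs (y * (k : G)) else 0)
      = ∑ t ∈ J, ((Finset.univ.filter fun k : C => k ∈ K ∧ t * k = k * t).card : ℂ) := by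
        rw [Finset.sum_congr rfl (g := fun k : C => ∑ t ∈ J,
          if k ∈ K ∧ t * k = k * t then (1 : ℂ) else 0) fun k _ => ?_, Finset.sum_comm]
        · exact Finset.sum_congr rfl fun t _ => Finset.sum_boole _ _
        · by_cases hk : k ∈ K
          · simp [hk, hterm k hk, Finset.sum_boole]
          · simp [hk]
    _ = ∑ w ∈ Finset.univ.erase (1 : (P : Subgroup G)),
          ∑ t ∈ J.filter (fun t : C => (t : C ⧸ K) = π w),
            ((Finset.univ.filter fun k : C => k ∈ K ∧ t * k = k * t).card : ℂ) := by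
        let back : C → ↥(P : Subgroup G) := fun t => (Equiv.ofBijective π hπ).symm (t : C ⧸ K)
        have hback : ∀ t w, back t = w ↔ (t : C ⧸ K) = π w := fun t w => by
          show (Equiv.ofBijective π hπ).symm _ = w ↔ _
          rw [Equiv.symm_apply_eq]
          rfl
        rw [← Finset.sum_fiberwise_of_maps_to (g := back) (t := Finset.univ.erase 1)]
        · refine Finset.sum_congr rfl fun w _ => Finset.sum_congr ?_ fun _ _ => rfl
          exact Finset.filter_congr fun t _ => hback t w
        · intro t ht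
          refine Finset.mem_erase.2 ⟨fun e => hJK t ht ?_, Finset.mem_univ _⟩
          rw [← QuotientGroup.eq_one_iff, (hback t 1).1 e]
          rfl
    _ = (Nat.card K : ℂ) * ((Nat.card (P : Subgroup G) : ℂ) - 1) := by
        rw [Finset.sum_congr rfl fun w hw => hfib w (Finset.mem_erase.1 hw).1, Finset.sum_const,
          Finset.card_erase_of_mem (Finset.mem_univ _), Finset.card_univ, ← Nat.card_eq_fintype_card,
          nsmul_eq_mul, Nat.cast_sub (Nat.card_pos), Nat.cast_one, mul_comm]

open Classical in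
/-- The principal block part of the involution count at `y`. -/
theorem sum_block_invs (h : Semireg P) (hM : Cfsg.IsPModular 2 M)
    (hsq : ∀ w ∈ (P : Subgroup G), w * w = 1) {y : G} (hy : y ∈ (P : Subgroup G)) (hy1 : y ≠ 1) :
    ∑ χ : IrrCharacter G, (if χ ∈ Cfsg.principalBlock M G then
      Cfsg.classInner invs (χ : G → ℂ) * (χ : G → ℂ) y else 0) =
      (Nat.card (P : Subgroup G) : ℂ) - 1 := by
  set C := Subgroup.centralizer ({y} : Set G) with hC
  haveI : Fintype C := Fintype.ofFinite C
  obtain ⟨K, hKn, hK, hKi⟩ := h.exists_complement hy hy1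
  obtain ⟨n, hn⟩ := P.2.exists_card_eq
  haveI := hKn
  set f : G → ℂ := invs with hf
  set b := Cfsg.principalBlock M C
  -- the block part on the centralizer
  have hcf : Cfsg.IsClassFunction G f := isClassFunction_invs
  have key : ∀ χ : IrrCharacter G, (if χ ∈ Cfsg.principalBlock M G then (χ : G → ℂ) y else 0) =
      ∑ k : C, Cfsg.blockCoeff b k * (χ : G → ℂ) (y * (k : G)) := by
    intro χ
    have h := BlocksLocal.blockPart_principal_translate hM (isPow_of_mem hy) χ (y := (1 : C))
      (by rw [orderOf_one]; exact Nat.prime_two.not_dvd_one)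
    rw [blockPart_eq_sum _ (isClassFunction_translate (χ : G → ℂ)
      (Characters.isClassFunction_of_isIrr χ.2) y)] at h
    simp only [mul_one, OneMemClass.coe_one] at h
    exact h.symm
  calc ∑ χ : IrrCharacter G, (if χ ∈ Cfsg.principalBlock M G then
        Cfsg.classInner f (χ : G → ℂ) * (χ : G → ℂ) y else 0)
      = ∑ χ : IrrCharacter G, Cfsg.classInner f (χ : G → ℂ) *
          ∑ k : C, Cfsg.blockCoeff b k * (χ : G → ℂ) (y * (k : G)) :=
        Finset.sum_congr rfl fun χ _ => by rw [← key]; split_ifs <;> simp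
    _ = ∑ k : C, Cfsg.blockCoeff b k * f (y * (k : G)) := by
        simp only [Finset.mul_sum]
        rw [Finset.sum_comm]
        refine Finset.sum_congr rfl fun k _ => ?_
        conv_rhs => rw [show f (y * (k : G)) = ∑ χ : IrrCharacter G,
          Cfsg.classInner f (χ : G → ℂ) * (χ : G → ℂ) (y * (k : G)) by
            conv_lhs => rw [Characters.classFunction_expansion hcf]
            simp [Finset.sum_apply]]
        rw [Finset.mul_sum]
        exact Finset.sum_congr rfl fun χ _ => by ring
    _ = _ := by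
        have hcoef : ∀ k : C, Cfsg.blockCoeff b k =
            if k ∈ K then (Nat.card K : ℂ)⁻¹ else 0 := by
          intro k
          have hbc := BlocksLocal.blockCoeff_principal_of_normal_complement hM K hK
            ⟨n, hKi.trans hn⟩ k
          have hcard : (Nat.card C : ℂ) = (K.index : ℂ) * Nat.card K := by
            rw [← Nat.cast_mul, K.index_mul_card]
          have hi : (K.index : ℂ) ≠ 0 := Nat.cast_ne_zero.2 Subgroup.index_ne_zero_of_finite
          have hk0 : (Nat.card K : ℂ) ≠ 0 := Nat.cast_ne_zero.2 Nat.card_pos.ne'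
          rw [hcard, Set.indicator_apply, mul_assoc] at hbc
          have hbc' := mul_left_cancel₀ hi hbc
          simp only [SetLike.mem_coe] at hbc'
          split_ifs with hkK
          · rw [if_pos hkK] at hbc'
            rw [eq_inv_of_mul_eq_one_right hbc']
          · rw [if_neg hkK] at hbc'
            exact (mul_eq_zero.1 hbc').resolve_left hk0
        simp only [hcoef, ite_mul, zero_mul]
        rw [Finset.sum_congr rfl (g := fun k : C => (Nat.card K : ℂ)⁻¹ *
          if k ∈ K then f (y * (k : G)) else 0) fun k _ => by split_ifs <;> simp, ← Finset.mul_sum,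
          sum_invs_section h hsq hy hy1 K hK hKi, ← mul_assoc,
          inv_mul_cancel₀ (Nat.cast_ne_zero.2 Nat.card_pos.ne'), one_mul]

/-- The orbit vector sums to the sum of the values on the nonidentity elements over the inertial
index. -/
theorem sum_oc (h : Semireg P) [Fintype (Orb P)] [Fintype (P : Subgroup G)] (χ : IrrCharacter G) :
    (Nat.card (aut P) : ℂ) * ∑ o : Orb P, (oc χ o : ℂ) =
      (∑ w : (P : Subgroup G), (χ : G → ℂ) w) - (χ : G → ℂ) 1 := by
  have h1 := charDegree_eq h χ
  have h2 := sum_mult_eq (P := P) χ 1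
  simp only [MonoidHom.one_apply, Units.val_one, map_one, mul_one] at h2
  have h3 : ((Cfsg.charDegree (χ : G → ℂ) : ℤ) : ℂ) = (χ : G → ℂ) 1 := by
    rw [Int.cast_natCast, charDegree_cast]
  rw [h1] at h3
  push_cast at h3
  rw [h2, ← h3]
  ring

open Classical in
theorem sum_block_oc (h : Semireg P) (hM : Cfsg.IsPModular 2 M)
    (hsq : ∀ w ∈ (P : Subgroup G), w * w = 1) [Fintype (Orb P)] {y : G}
    (hy : y ∈ (P : Subgroup G)) (hy1 : y ≠ 1) :
    ∑ χ : IrrCharacter G, (if χ ∈ Cfsg.principalBlock M G then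
      (∑ o : Orb P, (oc χ o : ℂ)) * (χ : G → ℂ) y else 0) =
      (Nat.card (P : Subgroup G) : ℂ) := by
  haveI := Fintype.ofFinite (P : Subgroup G)
  haveI := Fintype.ofFinite (aut P)
  have hA : (Nat.card (aut P) : ℂ) ≠ 0 := Nat.cast_ne_zero.2 Nat.card_pos.ne'
  refine mul_left_cancel₀ hA ?_
  rw [Finset.mul_sum]
  have hterm : ∀ χ : IrrCharacter G, (Nat.card (aut P) : ℂ) *
      (if χ ∈ Cfsg.principalBlock M G then (∑ o : Orb P, (oc χ o : ℂ)) * (χ : G → ℂ) y else 0) =
      ∑ w ∈ Finset.univ.erase (1 : (P : Subgroup G)),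
        if χ ∈ Cfsg.principalBlock M G then (χ : G → ℂ) y * conj ((χ : G → ℂ) (w : G)) else 0 := by
    intro χ
    by_cases hχ : χ ∈ Cfsg.principalBlock M G
    · simp only [if_pos hχ]
      rw [← mul_assoc, sum_oc h, ← Finset.mul_sum, mul_comm]
      congr 1
      rw [← Finset.add_sum_erase _ _ (Finset.mem_univ (1 : (P : Subgroup G))), OneMemClass.coe_one,
        add_sub_cancel_left]
      refine Finset.sum_congr rfl fun w _ => ?_
      rw [← Characters.character_inv (Characters.isCharacter_of_isIrr χ.2),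
        inv_eq_of_mul_eq_one_right (hsq _ w.2)]
    · simp [hχ]
  rw [Finset.sum_congr rfl fun χ _ => hterm χ, Finset.sum_comm,
    Finset.sum_congr rfl fun (w : (P : Subgroup G)) _ => h.sum_column hM hy hy1 w.2,
    ← Finset.sum_filter, Finset.sum_const, nsmul_eq_mul]
  congr 1
  -- the class of `y` in `P` has the size of the inertial index
  rw [Nat.card_eq_fintype_card, ← Finset.card_univ]
  refine congrArg Nat.cast (Finset.card_bij (fun (f : aut P) _ => f.1 ⟨y, hy⟩) ?_ ?_ ?_).symm
  · intro f _
    refine Finset.mem_filter.2 ⟨Finset.mem_erase.2 ⟨fun e => hy1 ?_, Finset.mem_univ _⟩,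
      isConj_aut f.2 ⟨y, hy⟩⟩
    have e' : (⟨y, hy⟩ : (P : Subgroup G)) = 1 := f.1.injective (by rw [e, map_one])
    exact congrArg Subtype.val e'
  · intro f _ g _ e
    by_contra hne
    have hfix : (g.1⁻¹ * f.1) ⟨y, hy⟩ = ⟨y, hy⟩ := by
      rw [MulAut.mul_apply, e, ← MulAut.mul_apply, inv_mul_cancel, MulAut.one_apply]
    exact hy1 (congrArg Subtype.val (h.eq_one_of_fixed (mul_mem (inv_mem g.2) f.2)
      (fun e1 => hne (Subtype.ext (inv_mul_eq_one.1 e1).symm)) hfix))
  · intro w hw
    obtain ⟨f, hf, e⟩ := h.exists_aut (y := ⟨y, hy⟩) (y' := w) (Finset.mem_filter.1 hw).2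
    exact ⟨⟨f, hf⟩, Finset.mem_univ _, e⟩

open Classical in
/-- The multiplicity in the involution count. -/
theorem classInner_invs_eq (h : Semireg P) (hM : Cfsg.IsPModular 2 M)
    (hsq : ∀ w ∈ (P : Subgroup G), w * w = 1) [Fintype (Orb P)] {χ : IrrCharacter G}
    (hχ : χ ∈ Cfsg.principalBlock M G) :
    Cfsg.classInner invs (χ : G → ℂ) = conj (FSIndicator.nu (χ : G → ℂ)) -
      (if χ = trivChar G then 1 else 0) + ∑ o : Orb P, (oc χ o : ℂ) := by
  set B := Cfsg.principalBlock M G with hB
  have hBu : IsBlockUnion M B := isBlockUnion_of_isPBlock isPBlock_principalBlock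
  set a : IrrCharacter G → ℂ := fun φ => Cfsg.classInner invs (φ : G → ℂ) with ha
  set r : IrrCharacter G → ℂ := fun φ => conj (FSIndicator.nu (φ : G → ℂ)) with hr
  set δ : IrrCharacter G → ℂ := fun φ => if φ = trivChar G then 1 else 0 with hδ
  set s : IrrCharacter G → ℂ := fun φ => ∑ o : Orb P, (oc φ o : ℂ) with hs
  have htriv : ∀ g : G, ∑ φ : IrrCharacter G, δ φ * (φ : G → ℂ) g = 1 := fun g => by
    rw [Finset.sum_eq_single (trivChar G) (fun φ _ hne => by simp [hδ, hne]) (by simp)]
    simp only [hδ, if_pos rfl, one_mul]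
    rfl
  have hexp : ∀ (f : G → ℂ), Cfsg.IsClassFunction G f → ∀ g,
      ∑ φ : IrrCharacter G, Cfsg.classInner f (φ : G → ℂ) * (φ : G → ℂ) g = f g := fun f hf g => by
    conv_rhs => rw [Characters.classFunction_expansion hf]
    simp [Finset.sum_apply]
  set F : G → ℂ := fun g => ∑ φ : IrrCharacter G,
    if φ ∈ B then (a φ - r φ + δ φ - s φ) * (φ : G → ℂ) g else 0 with hF
  have hFc : Cfsg.IsClassFunction G F := fun g c => Finset.sum_congr rfl fun φ _ => by
    rw [Characters.isClassFunction_of_isIrr φ.2 g c]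
  have hsplit : ∀ g, F g = (∑ φ : IrrCharacter G, if φ ∈ B then (a φ - r φ + δ φ) * (φ : G → ℂ) g
      else 0) - ∑ φ : IrrCharacter G, (if φ ∈ B then s φ * (φ : G → ℂ) g else 0) := fun g => by
    rw [hF, ← Finset.sum_sub_distrib]
    exact Finset.sum_congr rfl fun φ _ => by split_ifs <;> ring
  have hreg : ∀ g : G, ¬ 2 ∣ orderOf g → F g = 0 := by
    intro g hg
    rw [hsplit, sum_union_eq_zero hM hBu (fun φ => a φ - r φ + δ φ) (fun z hz => ?_) hg, zero_sub,
      neg_eq_zero]
    · refine Eq.trans ?_ (Finset.sum_eq_zero (s := (Finset.univ : Finset (Orb P))) fun o _ =>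
        sum_oc_mul_eq_zero (M := M) hM o hg)
      rw [Finset.sum_comm, ← Finset.sum_filter]
      refine Finset.sum_congr (Finset.ext fun φ => by simp [hB]) fun φ _ => ?_
      simp only [hs, Finset.sum_mul]
    · simp only [add_mul, sub_mul, Finset.sum_add_distrib, Finset.sum_sub_distrib, htriv, ha, hr]
      rw [hexp _ isClassFunction_invs, Finset.sum_congr rfl fun φ _ => by
        rw [← classInner_sqRoots φ], hexp _ isClassFunction_sqRoots, sqRoots_eq_of_odd hz]
      ring
  have hsec : ∀ g : G, 2 ∣ orderOf g → F g = 0 := by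
    intro g hg
    obtain ⟨k, hgk, hck, ⟨m, hm⟩, hko⟩ := Star.pPart_spec (p := 2) g
    obtain ⟨Q, hQ⟩ := (IsPGroup.of_card (p := 2) (n := m)
      (show Nat.card (Subgroup.zpowers (Star.pPart 2 g)) = 2 ^ m by
        rw [Nat.card_zpowers, hm])).exists_le_sylow
    obtain ⟨c, hc⟩ := MulAction.exists_smul_eq G Q P
    have hyP : c * Star.pPart 2 g * c⁻¹ ∈ (P : Subgroup G) := by
      rw [← hc]
      exact ⟨_, hQ (Subgroup.mem_zpowers _), rfl⟩
    set y := c * Star.pPart 2 g * c⁻¹
    have hy1 : y ≠ 1 := fun e => by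
      rw [conj_eq_one_iff] at e
      rw [e, one_mul] at hgk
      exact hko (hgk.symm ▸ hg)
    have hpart : Cfsg.IsPPart 2 (c * g * c⁻¹) y :=
      isPPart_conj (Star.pPart_spec g) c
    rw [← hFc g c]
    have hval : ∀ φ ∈ B, (φ : G → ℂ) (c * g * c⁻¹) = (φ : G → ℂ) y := fun φ hφ =>
      h.apply_of_isPPart hM hφ hpart hyP hy1
    rw [show F (c * g * c⁻¹) = F y from Finset.sum_congr rfl fun φ _ => by
      split_ifs with hφ
      · rw [hval φ hφ]
      · rfl]
    have h1 := sum_block_invs h hM hsq hyP hy1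
    have h2 := sum_block_oc h hM hsq hyP hy1
    have h3 : ∑ φ : IrrCharacter G, (if φ ∈ B then r φ * (φ : G → ℂ) y else 0) = 0 := by
      refine InvolColumn.sum_block_eq_zero hM isPBlock_principalBlock r (isPow_of_mem hyP) ?_
      intro u z hu hyz
      simp only [hr, ← classInner_sqRoots]
      rw [hexp _ isClassFunction_sqRoots]
      refine sqRoots_eq_zero hsq ?_
      obtain ⟨w, rfl, hcw, -, hw⟩ := hu
      obtain ⟨e, rfl⟩ := isConj_iff.1 hyz
      have ho : orderOf (e * y * e⁻¹) = 2 := by
        rw [show e * y * e⁻¹ = MulAut.conj e y from rfl, MulEquiv.orderOf_eq]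
        exact orderOf_eq_prime (by rw [sq]; exact hsq y hyP) hy1
      rw [hcw.orderOf_mul_eq_mul_orderOf_of_coprime (by
        rw [ho]; exact (Nat.prime_two.coprime_iff_not_dvd).2 hw), ho]
      exact dvd_mul_right 2 _
    have h4 : ∑ φ : IrrCharacter G, (if φ ∈ B then δ φ * (φ : G → ℂ) y else 0) = 1 := by
      rw [← htriv y]
      refine Finset.sum_congr rfl fun φ _ => ?_
      by_cases hφ : φ ∈ B
      · rw [if_pos hφ]
      · rw [if_neg hφ, hδ]
        simp [show φ ≠ trivChar G from fun e => hφ (e ▸ trivChar_mem)]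
    have hdec : F y = ((∑ φ : IrrCharacter G, (if φ ∈ B then a φ * (φ : G → ℂ) y else 0)) -
        ∑ φ : IrrCharacter G, (if φ ∈ B then r φ * (φ : G → ℂ) y else 0)) +
        (∑ φ : IrrCharacter G, (if φ ∈ B then δ φ * (φ : G → ℂ) y else 0)) -
        ∑ φ : IrrCharacter G, (if φ ∈ B then s φ * (φ : G → ℂ) y else 0) := by
      rw [hF, ← Finset.sum_sub_distrib, ← Finset.sum_add_distrib, ← Finset.sum_sub_distrib]
      exact Finset.sum_congr rfl fun φ _ => by split_ifs <;> ring
    rw [hdec, h1, h2, h3, h4]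
    ring
  have hzero : F = 0 := funext fun g => by
    by_cases hg : 2 ∣ orderOf g
    exacts [hsec g hg, hreg g hg]
  have key := Characters.classInner_irr_coeff
    (fun φ => if φ ∈ B then a φ - r φ + δ φ - s φ else 0) χ
  have hFeq : (∑ φ : IrrCharacter G, (if φ ∈ B then a φ - r φ + δ φ - s φ else 0) •
      (φ : G → ℂ)) = F := funext fun g => by
    rw [Finset.sum_apply]
    exact Finset.sum_congr rfl fun φ _ => by split_ifs <;> simp
  rw [hFeq, hzero, if_pos hχ] at key
  have h0 : Cfsg.classInner (0 : G → ℂ) (χ : G → ℂ) = 0 := by simp [Cfsg.classInner]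
  rw [h0] at key
  simp only [ha, hr, hδ, hs] at key ⊢
  linear_combination -key

end CfsgLib.RankOneInvolution
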