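import Cfsg.Agent.RankOneInvolution.Fixed

/-!
# Abelian Sylow 2-subgroups of order 8 and 16 with a rank-one involution centralizer
-/

set_option autoImplicit false
set_option linter.unusedSectionVars false
set_option linter.style.haveILetI false

namespace CfsgLib.RankOneInvolution

open Cfsg CfsgLib.Blocks CfsgLib.PrincipalBlock CfsgLib.BlocksFrobenius CfsgLib.BlockPairing

universe u

variable {G : Type u} [Group G] [Fintype G] [Fact (Nat.Prime 2)] {P : Sylow 2 G}

theorem semireg_of_free (hab : IsMulCommutative (P : Subgroup G))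
    (hfree : ∀ f ∈ aut P, ∀ w : (P : Subgroup G), w ≠ 1 → f w = w → f = 1) : Semireg P := by
  refine ⟨hab, fun y hy hy1 => le_antisymm ?_ ?_⟩
  · rintro n ⟨hny, hnN⟩
    exact mem_centralizer_of_aut_eq_one hnN (hfree _ ⟨_, rfl⟩ ⟨y, hy⟩
      (fun e => hy1 (congrArg Subtype.val e))
      (aut_fix_of_commute hnN (Subgroup.mem_centralizer_singleton_iff.1 hny)))
  · exact le_inf (Subgroup.centralizer_le (Set.singleton_subset_iff.2 hy))
      (Subgroup.centralizer_le_normalizer _)

/-- A prime-order automorphism and an invariant subgroup. -/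
theorem congr_fix {p : ℕ} [Fact p.Prime] (a : MulAut (P : Subgroup G)) (hap : a ^ p = 1)
    (H : Subgroup (P : Subgroup G)) (hH : ∀ w ∈ H, a w ∈ H) :
    Nat.card H ≡ Nat.card {w : H // a w = (w : (P : Subgroup G))} [MOD p] := by
  classical
  have hpow : ∀ (j : ℕ), ∀ w ∈ H, (a ^ j) w ∈ H := by
    intro j
    induction j with
    | zero => exact fun w hw => hw
    | succ j ih =>
      intro w hw
      rw [pow_succ, MulAut.mul_apply]
      exact ih _ (hH w hw)
  have hmem : ∀ g ∈ Subgroup.zpowers a, ∀ w ∈ H, g w ∈ H := by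
    intro g hg w hw
    rw [← mem_powers_iff_mem_zpowers] at hg
    obtain ⟨j, rfl⟩ := hg
    exact hpow j w hw
  letI : MulAction (Subgroup.zpowers a) H :=
    { smul := fun g w => ⟨g.1 w.1, hmem g.1 g.2 w.1 w.2⟩
      one_smul := fun w => Subtype.ext rfl
      mul_smul := fun g k w => Subtype.ext rfl }
  have hpg : IsPGroup p (Subgroup.zpowers a) := by
    rintro ⟨g, hg⟩
    refine ⟨1, Subtype.ext ?_⟩
    obtain ⟨j, rfl⟩ := hg
    show (a ^ j) ^ p ^ 1 = 1
    rw [pow_one, ← zpow_natCast, ← zpow_mul, mul_comm, zpow_mul, zpow_natCast, hap, one_zpow]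
  refine (hpg.card_modEq_card_fixedPoints H).trans (congrArg (· % p) (Nat.card_congr
    { toFun := fun w => ⟨w.1, congrArg Subtype.val (w.2 ⟨a, Subgroup.mem_zpowers a⟩)⟩
      invFun := fun w => ⟨w.1, fun g => ?_⟩
      left_inv := fun _ => rfl
      right_inv := fun _ => rfl }))
  obtain ⟨g, hg⟩ := g
  rw [← mem_powers_iff_mem_zpowers] at hg
  obtain ⟨j, rfl⟩ := hg
  refine Subtype.ext ?_
  show (a ^ j) (w.1 : (P : Subgroup G)) = w.1
  induction j with
  | zero => rfl
  | succ j ih => rw [pow_succ, MulAut.mul_apply, w.2, ih ⟨j, rfl⟩]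

/-- The elements of square one. -/
def omega (hab : IsMulCommutative (P : Subgroup G)) : Subgroup (P : Subgroup G) where
  carrier := {w | w * w = 1}
  one_mem' := one_mul 1
  mul_mem' := fun {a b} ha hb => by
    have : Commute b a := hab.is_comm.comm b a
    show a * b * (a * b) = 1
    rw [this.mul_mul_mul_comm, show a * a = 1 from ha, show b * b = 1 from hb, one_mul]
  inv_mem' := fun {a} ha => by
    show a⁻¹ * a⁻¹ = 1
    rw [← mul_inv_rev, show a * a = 1 from ha, inv_one]

/-- A commutative inertial group of order fifteen. -/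
theorem isCyclic_fifteen {A : Type*} [Group A] [Finite A] (hA : Nat.card A = 15) : IsCyclic A := by
  classical
  haveI : Fact (Nat.Prime 3) := ⟨Nat.prime_three⟩
  haveI : Fact (Nat.Prime 5) := ⟨by norm_num⟩
  obtain ⟨a, ha⟩ := exists_prime_orderOf_dvd_card' (G := A) 3 (by rw [hA]; norm_num)
  obtain ⟨b, hb⟩ := exists_prime_orderOf_dvd_card' (G := A) 5 (by rw [hA]; norm_num)
  have hi : (Subgroup.zpowers b).index = 3 := by
    have := (Subgroup.zpowers b).card_mul_index
    rw [Nat.card_zpowers, hb, hA] at this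
    omega
  haveI : (Subgroup.zpowers b).Normal := Subgroup.normal_of_index_eq_minFac_card (by
    rw [hi, hA]; norm_num)
  let ψ : A →* MulAut (Subgroup.zpowers b) := MulAut.conjNormal
  have h1 : orderOf (ψ a) ∣ 3 := ha ▸ orderOf_map_dvd ψ a
  have h2 : orderOf (ψ a) ∣ 4 := by
    have h := orderOf_dvd_natCard (ψ a)
    rw [IsCyclic.card_mulAut, Nat.card_zpowers, hb] at h
    rwa [Nat.totient_prime (by norm_num)] at h
  have hψ : ψ a = 1 := orderOf_eq_one_iff.1 (Nat.dvd_one.1 (Nat.dvd_gcd h1 h2))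
  have hcomm : Commute a b := by
    have e : ((ψ a ⟨b, Subgroup.mem_zpowers b⟩ : Subgroup.zpowers b) : A) = b := by
      rw [hψ]; rfl
    rw [MulAut.conjNormal_apply] at e
    exact mul_inv_eq_iff_eq_mul.1 e
  refine isCyclic_of_orderOf_eq_card (a * b) ?_
  rw [hcomm.orderOf_mul_eq_mul_orderOf_of_coprime (by rw [ha, hb]; norm_num), ha, hb, hA]

/-- A column of nonzero integers of norm `q` with at least `q - 5` entries. -/
theorem card_of_column {ι : Type*} (s : Finset ι) (d : ι → ℤ) (hd : ∀ i ∈ s, d i ≠ 0) {q : ℕ}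
    (hsum : ∑ i ∈ s, d i ^ 2 = (q : ℤ)) :
    s.card ≤ q ∧ (q ≤ s.card + 5 → s.card = q ∨ s.card + 3 = q) := by
  classical
  have hsplit : ∑ i ∈ s, (d i ^ 2 - 1) = (q : ℤ) - s.card := by
    rw [Finset.sum_sub_distrib, hsum, Finset.sum_const, nsmul_one]
  have hnn : ∀ i ∈ s, 0 ≤ d i ^ 2 - 1 := fun i hi => by
    have : 0 < d i ^ 2 := sq_pos_iff.2 (hd i hi)
    omega
  have h0 := Finset.sum_nonneg hnn
  rw [hsplit] at h0
  refine ⟨by omega, fun h5 => ?_⟩
  by_cases hall : ∀ i ∈ s, d i ^ 2 - 1 = 0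
  · rw [Finset.sum_eq_zero hall] at hsplit
    exact Or.inl (by omega)
  · push Not at hall
    obtain ⟨i, hi, hne⟩ := hall
    have hi2 : 4 ≤ d i ^ 2 := by
      have h2 : 2 ≤ |d i| := by
        by_contra hlt
        have := hd i hi
        rcases (abs_lt.1 (not_le.1 hlt)) with ⟨l, r⟩
        rcases (by omega : d i = 1 ∨ d i = -1) with e | e <;> simp [e] at hne
      nlinarith [sq_abs (d i)]
    have hlei : d i ^ 2 - 1 ≤ (q : ℤ) - s.card :=
      hsplit ▸ Finset.single_le_sum hnn hi
    have hi4 : d i ^ 2 = 4 := by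
      have habs : |d i| < 3 := by nlinarith [sq_abs (d i), abs_nonneg (d i)]
      rw [abs_lt] at habs
      have := hd i hi
      rcases (by omega : d i = 2 ∨ d i = -2 ∨ d i = 1 ∨ d i = -1) with e | e | e | e <;>
        simp [e] at hi2 ⊢
    have hrest : ∀ j ∈ s.erase i, d j ^ 2 - 1 = 0 := by
      intro j hj
      obtain ⟨hji, hjs⟩ := Finset.mem_erase.1 hj
      by_contra hjne
      have hj4 : 3 ≤ d j ^ 2 - 1 := by
        have := hd j hjs
        by_cases h2 : 2 ≤ |d j|
        · nlinarith [sq_abs (d j)]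
        · rcases (abs_lt.1 (not_le.1 h2)) with ⟨l, r⟩
          rcases (by omega : d j = 1 ∨ d j = -1) with e | e <;> simp [e] at hjne
      have := Finset.sum_le_sum_of_subset_of_nonneg (f := fun i => d i ^ 2 - 1)
        (Finset.insert_subset hjs (Finset.singleton_subset_iff.2 hi)) fun k hk _ => hnn k hk
      rw [Finset.sum_pair hji, hsplit, hi4] at this
      omega
    rw [← Finset.add_sum_erase _ _ hi, Finset.sum_eq_zero hrest, hi4] at hsplit
    exact Or.inr (by omega)

variable {M : Ideal AlgInt} [M.IsPrime]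

open Classical in
theorem principal_count (hM : Cfsg.IsPModular 2 M) (hab : IsMulCommutative (P : Subgroup G))
    {x : (P : Subgroup G)} (hx2 : x * x = 1) (hx1 : x ≠ 1)
    (hl : Cfsg.blockRank 2
      (Cfsg.principalBlock M (Subgroup.centralizer ({(x : G)} : Set G))) = 1) :
    (Nat.card (P : Subgroup G) = 8 → Nat.card (Cfsg.principalBlock M G) = 8) ∧
      (Nat.card (P : Subgroup G) = 16 →
        Nat.card (Cfsg.principalBlock M G) = 8 ∨ Nat.card (Cfsg.principalBlock M G) = 16) := by
  set q := Nat.card (P : Subgroup G) with hq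
  suffices key : q = 8 ∨ q = 16 → Nat.card (Cfsg.principalBlock M G) = q ∨
      (q = 16 ∧ Nat.card (Cfsg.principalBlock M G) = 8) by
    refine ⟨fun e => ?_, fun e => ?_⟩
    · rcases key (Or.inl e) with h | ⟨h, -⟩ <;> omega
    · rcases key (Or.inr e) with h | ⟨-, h⟩ <;> omega
  intro hq816
  haveI := Fintype.ofFinite (P : Subgroup G)
  haveI := Fintype.ofFinite (aut P)
  have hfx : ∀ f ∈ aut P, f x = x → f = 1 := fun f hf hfx => free_of_rank_one hM hab hl hf hfx
  set Ω := omega hab with hΩ
  set A := Nat.card (aut P) with hA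
  have hodd : ¬ 2 ∣ A := not_two_dvd_card_aut hab
  have hΩmem : ∀ f ∈ aut P, ∀ w ∈ Ω, f w ∈ Ω := fun f _ w hw => by
    show f w * f w = 1
    rw [← map_mul, show w * w = 1 from hw, map_one]
  -- the orbit of `x`
  have horbit : Function.Injective (fun f : aut P => f.1 x) := fun f g e => by
    have e' : f.1 x = g.1 x := e
    exact Subtype.ext (inv_mul_eq_one.1 (hfx _ (mul_mem (inv_mem g.2) f.2)
      (by rw [MulAut.mul_apply, e', ← MulAut.mul_apply, inv_mul_cancel, MulAut.one_apply]))).symm
  have hAΩ : A + 1 ≤ Nat.card Ω := by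
    have h1 : Nat.card {w : Ω // w ≠ 1} + 1 = Nat.card Ω := by
      haveI := Fintype.ofFinite Ω
      rw [Nat.card_eq_fintype_card (α := {w : Ω // w ≠ 1}), Fintype.card_subtype_compl,
        Fintype.card_subtype_eq, ← Nat.card_eq_fintype_card]
      have : 0 < Nat.card Ω := Nat.card_pos
      omega
    rw [← h1]
    refine Nat.add_le_add_right (Nat.card_le_card_of_injective (fun f : aut P =>
      (⟨⟨f.1 x, hΩmem f.1 f.2 x hx2⟩, fun e => hx1 (f.1.injective
        ((congrArg Subtype.val e : f.1 x = 1).trans (map_one f.1).symm))⟩ :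
        {w : Ω // w ≠ 1})) fun f g e => horbit
          (congrArg (fun w : {w : Ω // w ≠ 1} => ((w.1 : Ω) : (P : Subgroup G))) e)) _
  have hΩq : Nat.card Ω ∣ q := Subgroup.card_subgroup_dvd_card Ω
  have hAq : A + 1 ≤ q := hAΩ.trans (Nat.le_of_dvd Nat.card_pos hΩq)
  have hsq_of : Nat.card Ω = q → ∀ w ∈ (P : Subgroup G), w * w = 1 := by
    intro e w hw
    have h1 : (⟨w, hw⟩ : (P : Subgroup G)) ∈ Ω := by
      rw [Subgroup.eq_top_of_card_eq Ω e]; trivial
    exact congrArg Subtype.val (show (⟨w, hw⟩ : (P : Subgroup G)) * ⟨w, hw⟩ = 1 from h1)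
  -- the prime divisors
  have hprime : ∀ p, p.Prime → p ∣ A → ∃ (a : MulAut (P : Subgroup G)) (s : ℕ),
      a ∈ aut P ∧ orderOf a = p ∧ (s = 1 ∨ s = 2 ∨ s = 4 ∨ (s = 8 ∧ q = 16)) ∧ q % p = s % p := by
    intro p hp hpA
    haveI : Fact p.Prime := ⟨hp⟩
    obtain ⟨⟨a, ha⟩, hap⟩ := exists_prime_orderOf_dvd_card' (G := aut P) p hpA
    rw [Subgroup.orderOf_mk] at hap
    let Fa : Subgroup (P : Subgroup G) := MonoidHom.eqLocus a.toMonoidHom (MonoidHom.id _)
    have h1 := congr_fix a (hap ▸ pow_orderOf_eq_one a) (⊤ : Subgroup (P : Subgroup G))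
      fun _ _ => trivial
    rw [Subgroup.card_top, Nat.card_congr
      ({ toFun := fun w => ⟨w.1.1, w.2⟩, invFun := fun w => ⟨⟨w.1, trivial⟩, w.2⟩,
         left_inv := fun _ => rfl, right_inv := fun _ => rfl } :
        {w : (⊤ : Subgroup (P : Subgroup G)) // a w = (w : (P : Subgroup G))} ≃ Fa)] at h1
    refine ⟨a, Nat.card Fa, ha, hap, ?_, h1⟩
    have hd : Nat.card Fa ∣ q := Subgroup.card_subgroup_dvd_card Fa
    have hne : Nat.card Fa ≠ q := fun e => by
      have hxF : x ∈ Fa := by rw [Subgroup.eq_top_of_card_eq Fa e]; trivial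
      have := hfx a ha hxF
      rw [this, orderOf_one] at hap
      exact hp.ne_one hap.symm
    rcases hq816 with e | e <;> rw [e] at hd hne
    · have := Nat.le_of_dvd (by norm_num) hd
      interval_cases (Nat.card Fa) <;> omega
    · have := Nat.le_of_dvd (by norm_num) hd
      interval_cases (Nat.card Fa) <;> omega
  have hp11 : ∀ p, p.Prime → p ∣ A → p ≠ 11 ∧ p ≠ 13 ∧ (q = 8 → p ≠ 5) := by
    intro p hp hpA
    obtain ⟨a, s, -, -, hs, hmod⟩ := hprime p hp hpA
    refine ⟨?_, ?_, ?_⟩
    · rintro rfl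
      rcases hq816 with e | e <;> rw [e] at hmod <;>
        rcases hs with rfl | rfl | rfl | ⟨rfl, _⟩ <;> omega
    · rintro rfl
      rcases hq816 with e | e <;> rw [e] at hmod <;>
        rcases hs with rfl | rfl | rfl | ⟨rfl, _⟩ <;> omega
    · rintro e rfl
      rw [e] at hmod
      rcases hs with rfl | rfl | rfl | ⟨rfl, _⟩ <;> omega
  have hcases : A = 1 ∨ A = 3 ∨ (A = 5 ∧ q = 16) ∨ A = 7 ∨ (A = 9 ∧ q = 16) ∨
      (A = 15 ∧ q = 16) := by
    have hA0 : 0 < A := Nat.card_pos
    have hA16 : A ≤ 15 := by omega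
    have hne11 : A ≠ 11 := fun e => (hp11 11 (by norm_num) (e ▸ dvd_rfl)).1 rfl
    have hne13 : A ≠ 13 := fun e => (hp11 13 (by norm_num) (e ▸ dvd_rfl)).2.1 rfl
    have hne5 : A = 5 → q = 16 := fun e => hq816.resolve_left fun e8 =>
      (hp11 5 (by norm_num) (e ▸ dvd_rfl)).2.2 e8 rfl
    omega
  -- the free column
  have hxG : (x : G) * x = 1 := congrArg Subtype.val hx2
  obtain ⟨d, hd, hdsum⟩ := exists_column hM hab hxG hx1 hfx
  have hcol := card_of_column (Cfsg.principalBlock M G).toFinset d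
    (fun χ hχ => (hd χ (Set.mem_toFinset.1 hχ)).2) hdsum
  rw [Set.toFinset_card, ← Nat.card_eq_fintype_card, ← hq] at hcol
  have hl1 : 1 ≤ Cfsg.blockRank 2 (Cfsg.principalBlock M G) :=
    one_le_blockRank ⟨trivChar G, trivChar_mem⟩
  have hfull : A + 1 = q → Semireg P := by
    intro e
    refine semireg_of_free hab fun f hf w hw hfw => ?_
    let φ : aut P → {v : (P : Subgroup G) // v ≠ 1} := fun f =>
      ⟨f.1 x, fun e => hx1 (f.1.injective (by rw [e, map_one]))⟩
    have hφ : Function.Bijective φ := by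
      refine (Nat.bijective_iff_injective_and_card φ).2
        ⟨fun f g e => horbit (congrArg Subtype.val e), ?_⟩
      rw [Nat.card_eq_fintype_card (α := {v : (P : Subgroup G) // v ≠ 1}),
        Fintype.card_subtype_compl, Fintype.card_subtype_eq, ← Nat.card_eq_fintype_card]
      omega
    obtain ⟨g, hg⟩ := hφ.2 ⟨w, hw⟩
    have hgx : g.1 x = w := congrArg Subtype.val hg
    have h1 : g.1⁻¹ * f * g.1 = 1 := hfx _ (mul_mem (mul_mem (inv_mem g.2) hf) g.2)
      (by rw [MulAut.mul_apply, MulAut.mul_apply, hgx, hfw, ← hgx, ← MulAut.mul_apply,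
        inv_mul_cancel, MulAut.one_apply])
    calc f = g.1 * (g.1⁻¹ * f * g.1) * g.1⁻¹ := by group
      _ = 1 := by rw [h1]; group
  rcases hcases with e | e | ⟨e, e16⟩ | e | ⟨e, e16⟩ | ⟨e, e16⟩
  · -- trivial inertial group
    left
    have hsub : ∀ f ∈ aut P, f = 1 := by
      intro f hf
      haveI : Subsingleton (aut P) := Finite.card_le_one_iff_subsingleton.1 (le_of_eq e)
      exact congrArg Subtype.val (Subsingleton.elim (⟨f, hf⟩ : aut P) 1)
    have hcount := count hM hab (⊥ : Subgroup G) bot_le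
      (fun f hf w _ => by rw [hsub f hf, MulAut.one_apply]) (fun f hf _ _ _ => hsub f hf) 0
      (fun v hv hv1 => absurd (Subgroup.mem_bot.1 hv) hv1)
    have h1 : Cfsg.blockRank 2 (Cfsg.principalBlock M G) = 1 := by
      have := rank_free hM hab (y := 1) fun f hf _ => hsub f hf
      rw [OneMemClass.coe_one, ← sum_inducing_principal hM (x := (1 : G)) ⟨0, by simp⟩,
        CfsgLib.InertialQuotient.sum_blockRank_one hM isPBlock_principalBlock] at this
      exact this
    rw [← hA, e, h1, Subgroup.card_bot] at hcount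
    rcases hq816 with e' | e' <;> omega
  · -- index three
    obtain ⟨F, V, a, ha, ha1, hF, hfixa⟩ := exists_fixed P hab (by rw [← hA, e]; norm_num)
    haveI : Fact (Nat.Prime 3) := ⟨Nat.prime_three⟩
    have hap : a ^ 3 = 1 := by
      have := pow_card_eq_one' (G := aut P) (x := ⟨a, ha⟩)
      rw [← hA, e] at this
      exact congrArg Subtype.val this
    have hmod : q % 3 = Nat.card F % 3 := by
      have h1 := congr_fix a hap (⊤ : Subgroup (P : Subgroup G)) fun _ _ => trivial
      rw [Subgroup.card_top, Nat.card_congr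
        ({ toFun := fun w => ⟨(w.1.1 : G), (hfixa _).1 w.2⟩
           invFun := fun w => ⟨⟨⟨w.1, hF.leF w.2⟩, trivial⟩, (hfixa _).2 w.2⟩
           left_inv := fun _ => rfl, right_inv := fun _ => rfl } :
          {w : (⊤ : Subgroup (P : Subgroup G)) // a w = (w : (P : Subgroup G))} ≃ F)] at h1
      exact h1
    have hFd : Nat.card F ∣ q := ⟨Nat.card V, hF.card.symm⟩
    have hxF : (x : G) ∉ F := fun hm => ha1 (hfx a ha ((hfixa x).2 hm))
    have hFne : Nat.card F ≠ q := fun e' => hxF (by
      rw [show F = (P : Subgroup G) from Subgroup.eq_of_le_of_card_ge hF.leF (le_of_eq e'.symm)]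
      exact x.2)
    have hFcases : (q = 8 ∧ Nat.card F = 2) ∨ (q = 16 ∧ (Nat.card F = 1 ∨ Nat.card F = 4)) := by
      have := Nat.le_of_dvd (by omega) hFd
      rcases hq816 with e' | e' <;> rw [e'] at this hFd hFne hmod <;>
        interval_cases (Nat.card F) <;> omega
    by_cases hF1 : Nat.card F = 1
    · right
      have h16 : q = 16 := by omega
      have hS : Semireg P := semireg_of_free hab fun f hf w hw hfw => hF.free f hf w
        (fun hm => hw (Subtype.ext (Subgroup.mem_bot.1 (Subgroup.eq_bot_of_card_eq F hF1 ▸ hm)))) hfw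
      exact ⟨h16, card_three hS hM e h16⟩
    · left
      have hV4 : Nat.card V = 4 := by
        have := hF.card
        rcases hFcases with ⟨e1, e2⟩ | ⟨e1, e2 | e2⟩ <;> rw [e2, ← hq, e1] at this <;> omega
      have hfullV : Nat.card (aut P) + 1 = Nat.card V := by rw [← hA, e, hV4]
      have hcount := count hM hab F hF.leF hF.fix hF.free 3 fun u hu hu1 => by
        rw [hF.rank hM hfullV (Or.inl hV4) hu hu1, hV4]
      rw [← hA, e, ← hq] at hcount
      obtain ⟨hle, hge⟩ := hcol
      rcases hFcases with ⟨e1, e2⟩ | ⟨e1, e2 | e2⟩ <;> rw [e2, e1] at hcount <;>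
        rw [e1] at hle hge ⊢ <;> omega
  · -- index five
    right
    haveI : Fact (Nat.Prime 5) := ⟨by norm_num⟩
    obtain ⟨F, V, a, ha, ha1, hF, hfixa⟩ := exists_fixed P hab (by rw [← hA, e]; norm_num)
    have hap : a ^ 5 = 1 := by
      have := pow_card_eq_one' (G := aut P) (x := ⟨a, ha⟩)
      rw [← hA, e] at this
      exact congrArg Subtype.val this
    have h1 := congr_fix a hap (⊤ : Subgroup (P : Subgroup G)) fun _ _ => trivial
    rw [Subgroup.card_top, ← hq, e16, Nat.card_congr
      ({ toFun := fun w => ⟨(w.1.1 : G), (hfixa _).1 w.2⟩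
         invFun := fun w => ⟨⟨⟨w.1, hF.leF w.2⟩, trivial⟩, (hfixa _).2 w.2⟩
         left_inv := fun _ => rfl, right_inv := fun _ => rfl } :
        {w : (⊤ : Subgroup (P : Subgroup G)) // a w = (w : (P : Subgroup G))} ≃ F)] at h1
    have hFd : Nat.card F ∣ q := ⟨Nat.card V, hF.card.symm⟩
    have hxF : (x : G) ∉ F := fun hm => ha1 (hfx a ha ((hfixa x).2 hm))
    have hFne : Nat.card F ≠ q := fun e' => hxF (by
      rw [show F = (P : Subgroup G) from Subgroup.eq_of_le_of_card_ge hF.leF (le_of_eq e'.symm)]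
      exact x.2)
    have hF1 : Nat.card F = 1 := by
      rw [e16] at hFd hFne
      have := Nat.le_of_dvd (by norm_num) hFd
      unfold Nat.ModEq at h1
      interval_cases (Nat.card F) <;> omega
    have hfree : ∀ w : (P : Subgroup G), a w = w → w = 1 := fun w hw =>
      Subtype.ext (Subgroup.mem_bot.1 (Subgroup.eq_bot_of_card_eq F hF1 ▸ (hfixa w).1 hw))
    have hS : Semireg P := semireg_of_free hab fun f hf w hw hfw => hF.free f hf w
      (fun hm => hw (hfree w ((hfixa w).2 hm))) hfw
    have hΩ16 : Nat.card Ω = q := by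
      have h2 := congr_fix a hap Ω (hΩmem a ha)
      rw [Nat.card_eq_one_iff_unique.2 ⟨⟨fun u v => Subtype.ext (Subtype.ext
        ((hfree _ u.2).trans (hfree _ v.2).symm))⟩, ⟨⟨1, map_one a⟩⟩⟩] at h2
      rw [e16] at hΩq ⊢
      have := Nat.le_of_dvd (by norm_num) hΩq
      unfold Nat.ModEq at h2
      interval_cases (Nat.card Ω) <;> omega
    exact ⟨e16, card_five hS hM (hsq_of hΩ16) e e16⟩
  · -- index seven
    left
    rcases hq816 with e8 | e16
    · have hΩ8 : Nat.card Ω = q := by
        have := Nat.le_of_dvd Nat.card_pos hΩq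
        omega
      rw [card_full (hfull (by omega)) hM (hsq_of hΩ8) (by rw [← hA, e, ← hq, e8])
        (by haveI : Fact (Nat.Prime 7) := ⟨by norm_num⟩
            exact isCyclic_of_prime_card e)]
    · haveI : Fact (Nat.Prime 7) := ⟨by norm_num⟩
      obtain ⟨F, V, a, ha, ha1, hF, hfixa⟩ := exists_fixed P hab (by rw [← hA, e]; norm_num)
      have hap : a ^ 7 = 1 := by
        have := pow_card_eq_one' (G := aut P) (x := ⟨a, ha⟩)
        rw [← hA, e] at this
        exact congrArg Subtype.val this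
      have h1 := congr_fix a hap (⊤ : Subgroup (P : Subgroup G)) fun _ _ => trivial
      rw [Subgroup.card_top, ← hq, e16, Nat.card_congr
        ({ toFun := fun w => ⟨(w.1.1 : G), (hfixa _).1 w.2⟩
           invFun := fun w => ⟨⟨⟨w.1, hF.leF w.2⟩, trivial⟩, (hfixa _).2 w.2⟩
           left_inv := fun _ => rfl, right_inv := fun _ => rfl } :
          {w : (⊤ : Subgroup (P : Subgroup G)) // a w = (w : (P : Subgroup G))} ≃ F)] at h1
      have hFd : Nat.card F ∣ q := ⟨Nat.card V, hF.card.symm⟩
      have hxF : (x : G) ∉ F := fun hm => ha1 (hfx a ha ((hfixa x).2 hm))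
      have hFne : Nat.card F ≠ q := fun e' => hxF (by
        rw [show F = (P : Subgroup G) from Subgroup.eq_of_le_of_card_ge hF.leF (le_of_eq e'.symm)]
        exact x.2)
      have hF2 : Nat.card F = 2 := by
        rw [e16] at hFd hFne
        have := Nat.le_of_dvd (by norm_num) hFd
        unfold Nat.ModEq at h1
        interval_cases (Nat.card F) <;> omega
      have hV8 : Nat.card V = 8 := by
        have := hF.card
        rw [hF2, ← hq, e16] at this
        omega
      have hfullV : Nat.card (aut P) + 1 = Nat.card V := by rw [← hA, e, hV8]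
      have hcount := count hM hab F hF.leF hF.fix hF.free 7 fun u hu hu1 => by
        rw [hF.rank hM hfullV (Or.inr ⟨hF2, hV8⟩) hu hu1, hV8]
      rw [← hA, e, ← hq, hF2, e16] at hcount
      have hl2 : 2 ≤ Cfsg.blockRank 2 (Cfsg.principalBlock M G) := by
        by_contra hlt
        have h1' : Cfsg.blockRank 2 (Cfsg.principalBlock M G) = 1 := by omega
        have hone : Cfsg.blockRank 2 (Cfsg.principalBlock M
            (Subgroup.centralizer ({((1 : (P : Subgroup G)) : G)} : Set G))) = 1 := by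
          rw [OneMemClass.coe_one, ← sum_inducing_principal hM (x := (1 : G)) ⟨0, by simp⟩,
            CfsgLib.InertialQuotient.sum_blockRank_one hM isPBlock_principalBlock, h1']
        exact ha1 (free_of_rank_one hM hab hone ha (map_one a))
      have heven := hF.even_card hM hF2 hfullV
      obtain ⟨hle, hge⟩ := hcol
      rw [e16] at hle hge ⊢
      omega
  · -- index nine
    left
    have hΩ16 : Nat.card Ω = q := by
      rw [e16] at hΩq ⊢
      have := Nat.le_of_dvd (by norm_num) hΩq
      interval_cases (Nat.card Ω) <;> omega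
    have he : (Subgroup.centralizer ((P : Subgroup G) : Set G)).relIndex
        (Subgroup.normalizer ((P : Subgroup G) : Set G)) = 9 := by rw [← card_aut, ← hA, e]
    obtain ⟨V, W, h⟩ := BlocksCharsC.Sixteen.exists_planes P e16 (fun w => Subtype.ext (by
      rw [sq]; exact hsq_of hΩ16 _ w.2)) he
    rw [(BlocksCharsC.Sixteen.principal_invariants hM h he).1, e16]
  · -- index fifteen
    left
    have hΩ16 : Nat.card Ω = q := by
      rw [e16] at hΩq ⊢
      have := Nat.le_of_dvd (by norm_num) hΩq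
      omega
    rw [card_full (hfull (by omega)) hM (hsq_of hΩ16) (by rw [← hA, e, ← hq, e16])
      (isCyclic_fifteen e)]

end CfsgLib.RankOneInvolution
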