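import Cfsg.Agent.Blocks.LocalRing
import Cfsg.Agent.PrincipalBlock.Basic
import Cfsg.Agent.Characters.Orthogonality
import Mathlib.LinearAlgebra.Eigenspace.Charpoly
import Mathlib.LinearAlgebra.Eigenspace.Minpoly
import Mathlib.LinearAlgebra.Trace

/-!
# An orbital of the conjugates of an element of an abelian Sylow subgroup

If `σ` normalises the abelian Sylow subgroup `P`, fusion in `P` commutes with `σ` and the first `L`
iterates of `x ∈ P` under `σ` are distinct, then the multiplicities of the trivial character of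
`C(x)` in the characters of the principal block sum to at least `L`.
-/

set_option autoImplicit false
set_option linter.unusedSectionVars false
set_option linter.style.haveILetI false

namespace CfsgLib.RankOneInvolution

open Cfsg CfsgLib.Blocks CfsgLib.PrincipalBlock Polynomial
open scoped ComplexConjugate

universe u

/-- Invariant sums reduce to the fixed points. -/
theorem sum_eq_sum_fixed {p : ℕ} [Fact p.Prime] {H : Type*} [Group H] [Finite H]
    (hH : IsPGroup p H) {α : Type*} [Fintype α] (φ : H →* Equiv.Perm α) {k : Type*} [CommRing k]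
    [CharP k p] (F : α → k) (hF : ∀ h x, F (φ h x) = F x)
    [DecidablePred fun x => ∀ h, φ h x = x] :
    ∑ x, F x = ∑ x ∈ Finset.univ.filter (fun x => ∀ h, φ h x = x), F x := by
  classical
  letI : MulAction H α := MulAction.compHom α φ
  rw [← Finset.sum_fiberwise_of_maps_to (g := F) (t := Finset.univ.image F)
      (fun x _ => Finset.mem_image_of_mem _ (Finset.mem_univ x)),
    ← Finset.sum_fiberwise_of_maps_to (s := Finset.univ.filter fun x => ∀ h, φ h x = x) (g := F)
      (t := Finset.univ.image F) (fun x _ => Finset.mem_image_of_mem _ (Finset.mem_univ x))]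
  refine Finset.sum_congr rfl fun a _ => ?_
  rw [Finset.sum_congr rfl (g := fun _ => a) fun x hx => (Finset.mem_filter.1 hx).2,
    Finset.sum_congr (s₁ := ((Finset.univ.filter fun x => ∀ h, φ h x = x).filter fun x => F x = a))
      rfl (g := fun _ => a) fun x hx => (Finset.mem_filter.1 hx).2,
    Finset.sum_const, Finset.sum_const, nsmul_eq_mul, nsmul_eq_mul]
  congr 1
  let S : SubMulAction H α :=
    { carrier := {x | F x = a}
      smul_mem' := fun h x hx => (hF h x).trans hx }
  have hm := hH.card_modEq_card_fixedPoints S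
  refine (CharP.natCast_eq_natCast k p).2 ?_
  have e1 : Nat.card S = (Finset.univ.filter fun x => F x = a).card := by
    rw [← Fintype.card_subtype, ← Nat.card_eq_fintype_card]
    rfl
  have e2 : Nat.card (MulAction.fixedPoints H S) =
      ((Finset.univ.filter fun x => ∀ h, φ h x = x).filter fun x => F x = a).card := by
    rw [Finset.filter_filter, ← Fintype.card_subtype, ← Nat.card_eq_fintype_card]
    exact Nat.card_congr
      { toFun := fun x => ⟨x.1.1, fun h => congrArg Subtype.val (x.2 h), x.1.2⟩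
        invFun := fun x => ⟨⟨x.1, x.2.2⟩, fun h => Subtype.ext (x.2.1 h)⟩
        left_inv := fun _ => rfl
        right_inv := fun _ => rfl }
  rwa [← e1, ← e2]

variable {G : Type u} [Group G]

/-- The conjugates of `x`. -/
abbrev Conjs (x : G) := {g : G // IsConj x g}

/-- Conjugation of the conjugates. -/
def act {x : G} (g : G) : Equiv.Perm (Conjs x) where
  toFun w := ⟨g * w.1 * g⁻¹, w.2.trans (isConj_iff.2 ⟨g, rfl⟩)⟩
  invFun w := ⟨g⁻¹ * w.1 * g, w.2.trans (isConj_iff.2 ⟨g⁻¹, by group⟩)⟩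
  left_inv w := Subtype.ext (by group)
  right_inv w := Subtype.ext (by group)

theorem act_mul {x : G} (g h : G) (w : Conjs x) : act (g * h) w = act g (act h w) :=
  Subtype.ext (show g * h * w.1 * (g * h)⁻¹ = g * (h * w.1 * h⁻¹) * g⁻¹ by group)

theorem act_self {x : G} (g : G) : (act g (⟨x, IsConj.refl x⟩ : Conjs x)).1 = g * x * g⁻¹ := rfl

/-- The base point. -/
def base (x : G) : Conjs x := ⟨x, IsConj.refl x⟩

variable [Fintype G]

open Classical in
/-- The orbital of `(x, σ x σ⁻¹)`. -/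
noncomputable def orbital (x σ : G) : Matrix (Conjs x) (Conjs x) ℤ := fun w w' =>
  if ∃ g : G, g * x * g⁻¹ = w.1 ∧ g * (σ * x * σ⁻¹) * g⁻¹ = w'.1 then 1 else 0

theorem orbital_act (x σ g : G) (w w' : Conjs x) :
    orbital x σ (act g w) (act g w') = orbital x σ w w' := by
  have : (∃ c : G, c * x * c⁻¹ = (act g w).1 ∧ c * (σ * x * σ⁻¹) * c⁻¹ = (act g w').1) ↔
      ∃ c : G, c * x * c⁻¹ = w.1 ∧ c * (σ * x * σ⁻¹) * c⁻¹ = w'.1 := by
    constructor
    · rintro ⟨c, h1, h2⟩
      refine ⟨g⁻¹ * c, ?_, ?_⟩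
      · calc g⁻¹ * c * x * (g⁻¹ * c)⁻¹ = g⁻¹ * (c * x * c⁻¹) * g := by group
          _ = w.1 := by rw [h1]; show g⁻¹ * (g * w.1 * g⁻¹) * g = _; group
      · calc g⁻¹ * c * (σ * x * σ⁻¹) * (g⁻¹ * c)⁻¹ = g⁻¹ * (c * (σ * x * σ⁻¹) * c⁻¹) * g := by group
          _ = w'.1 := by rw [h2]; show g⁻¹ * (g * w'.1 * g⁻¹) * g = _; group
    · rintro ⟨c, h1, h2⟩
      refine ⟨g * c, ?_, ?_⟩
      · show _ = g * w.1 * g⁻¹
        rw [← h1]; group
      · show _ = g * w'.1 * g⁻¹
        rw [← h2]; group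
  simp only [orbital]
  split_ifs <;> simp_all

open Classical in
theorem pow_act (x σ g : G) (l : ℕ) (w w' : Conjs x) :
    (orbital x σ ^ l) (act g w) (act g w') = (orbital x σ ^ l) w w' := by
  induction l generalizing w' with
  | zero =>
    simp only [pow_zero, Matrix.one_apply]
    simp [(act g).injective.eq_iff]
  | succ l ih =>
    simp only [pow_succ, Matrix.mul_apply]
    rw [← Equiv.sum_comp (act g)]
    exact Finset.sum_congr rfl fun v _ => by rw [ih, orbital_act]

variable {d : ℕ}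

open Classical in
/-- The endomorphism attached to an invariant integer matrix. -/
noncomputable def lam (x : G) (ρ : Representation ℂ G (Fin d → ℂ))
    (a : Matrix (Conjs x) (Conjs x) ℤ) : Module.End ℂ (Fin d → ℂ) :=
  (Nat.card (Subgroup.centralizer ({x} : Set G)) : ℂ)⁻¹ •
    ∑ h : G, (a (base x) (act h (base x)) : ℂ) • ρ h

open Classical in
theorem sum_act (x : G) {R : Type*} [AddCommMonoid R] (f : Conjs x → R) :
    ∑ h : G, f (act h (base x)) =
      Nat.card (Subgroup.centralizer ({x} : Set G)) • ∑ w : Conjs x, f w := by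
  rw [← Finset.sum_fiberwise Finset.univ (fun h : G => act h (base x)), Finset.smul_sum]
  refine Finset.sum_congr rfl fun w _ => ?_
  rw [Finset.sum_congr rfl (g := fun _ => f w) fun h hh => by rw [(Finset.mem_filter.1 hh).2],
    Finset.sum_const]
  congr 1
  obtain ⟨c, hc⟩ := isConj_iff.1 w.2
  rw [Nat.card_eq_fintype_card, ← Finset.card_univ]
  refine (Finset.card_bij (fun (s : Subgroup.centralizer ({x} : Set G)) _ => c * (s : G)) ?_ ?_ ?_).symm
  · intro s _
    refine Finset.mem_filter.2 ⟨Finset.mem_univ _, Subtype.ext ?_⟩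
    show c * s * x * (c * s)⁻¹ = w.1
    rw [← hc, show c * s * x * (c * (s : G))⁻¹ = c * ((s : G) * x * (s : G)⁻¹) * c⁻¹ by group,
      Subgroup.mem_centralizer_singleton_iff.1 s.2, mul_inv_cancel_right]
  · exact fun _ _ _ _ he => Subtype.ext (mul_left_cancel he)
  · intro h hh
    refine ⟨⟨c⁻¹ * h, Subgroup.mem_centralizer_singleton_iff.2 ?_⟩, Finset.mem_univ _,
      mul_inv_cancel_left c h⟩
    have e : h * x * h⁻¹ = w.1 := congrArg Subtype.val (Finset.mem_filter.1 hh).2
    rw [← hc] at e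
    calc c⁻¹ * h * x = c⁻¹ * (h * x * h⁻¹) * h := by group
      _ = x * (c⁻¹ * h) := by rw [e]; group

open Classical in
theorem lam_mul (x : G) (ρ : Representation ℂ G (Fin d → ℂ))
    (a b : Matrix (Conjs x) (Conjs x) ℤ) (hb : ∀ g w w', b (act g w) (act g w') = b w w') :
    lam x ρ (a * b) = lam x ρ a * lam x ρ b := by
  set c : ℂ := (Nat.card (Subgroup.centralizer ({x} : Set G)) : ℂ) with hc
  have hc0 : c ≠ 0 := Nat.cast_ne_zero.2 Nat.card_pos.ne'
  have key : (∑ u : G, (a (base x) (act u (base x)) : ℂ) • ρ u) *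
      (∑ v : G, (b (base x) (act v (base x)) : ℂ) • ρ v) =
      c • ∑ h : G, ((a * b) (base x) (act h (base x)) : ℂ) • ρ h := by
    rw [Finset.smul_sum, Finset.sum_mul]
    calc ∑ u : G, (a (base x) (act u (base x)) : ℂ) • ρ u *
          ∑ v : G, (b (base x) (act v (base x)) : ℂ) • ρ v
        = ∑ u : G, ∑ h : G, ((a (base x) (act u (base x)) : ℂ) *
            (b (act u (base x)) (act h (base x)) : ℂ)) • ρ h := by
          refine Finset.sum_congr rfl fun u _ => ?_
          rw [Finset.mul_sum, ← Equiv.sum_comp (Equiv.mulLeft u⁻¹)]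
          refine Finset.sum_congr rfl fun h _ => ?_
          rw [smul_mul_smul_comm, ← map_mul, Equiv.coe_mulLeft, mul_inv_cancel_left,
            ← hb u (base x) (act (u⁻¹ * h) (base x)), ← act_mul, mul_inv_cancel_left]
      _ = ∑ h : G, c • ((a * b) (base x) (act h (base x)) : ℂ) • ρ h := by
          rw [Finset.sum_comm]
          refine Finset.sum_congr rfl fun h _ => ?_
          rw [← Finset.sum_smul, smul_smul]
          congr 1
          rw [sum_act x (fun w => (a (base x) w : ℂ) * (b w (act h (base x)) : ℂ)), nsmul_eq_mul,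
            Matrix.mul_apply]
          push_cast
          rfl
  rw [lam, lam, lam, smul_mul_smul_comm, key, smul_smul, ← hc]
  congr 1
  field_simp

open Classical in
theorem lam_one_idem (x : G) (ρ : Representation ℂ G (Fin d → ℂ)) :
    lam x ρ 1 * lam x ρ 1 = lam x ρ 1 := by
  rw [← lam_mul x ρ 1 1 (fun g w w' => by simp [Matrix.one_apply, (act g).injective.eq_iff]), mul_one]

open Classical in
theorem trace_lam_one (x : G) (ρ : Representation ℂ G (Fin d → ℂ)) :
    LinearMap.trace ℂ _ (lam x ρ 1) = (Nat.card (Subgroup.centralizer ({x} : Set G)) : ℂ)⁻¹ *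
      ∑ s : Subgroup.centralizer ({x} : Set G), ρ.character (s : G) := by
  rw [lam, map_smul, map_sum, smul_eq_mul]
  congr 1
  rw [← Finset.sum_subtype (Finset.univ.filter fun h : G => h ∈ Subgroup.centralizer ({x} : Set G))
    (fun h => by simp) (fun h => ρ.character h), Finset.sum_filter]
  refine Finset.sum_congr rfl fun h _ => ?_
  rw [map_smul, smul_eq_mul, Matrix.one_apply]
  have : base x = act h (base x) ↔ h ∈ Subgroup.centralizer ({x} : Set G) := by
    rw [Subgroup.mem_centralizer_singleton_iff, Subtype.ext_iff]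
    show x = h * x * h⁻¹ ↔ _
    rw [eq_mul_inv_iff_mul_eq, eq_comm]
  simp only [this]
  split_ifs <;> simp [Representation.character]

open Classical in
theorem lam_sum (x : G) (ρ : Representation ℂ G (Fin d → ℂ)) (s : Finset ℕ) (c : ℕ → ℤ)
    (a : ℕ → Matrix (Conjs x) (Conjs x) ℤ) :
    ∑ l ∈ s, (c l : ℂ) • lam x ρ (a l) = lam x ρ (∑ l ∈ s, c l • a l) := by
  simp only [lam, Finset.smul_sum, smul_smul, Matrix.sum_apply, Matrix.smul_apply, Int.cast_sum,
    smul_eq_mul, Int.cast_mul, Finset.sum_smul, Finset.mul_sum]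
  rw [Finset.sum_comm]
  exact Finset.sum_congr rfl fun h _ => Finset.sum_congr rfl fun l _ => by
    congr 1
    ring

open Classical in
/-- A monic polynomial with local integral coefficients, of degree the multiplicity of the trivial
character of `C(x)`, killing the orbital in the representation. -/
theorem exists_annihilator {M : Ideal AlgInt} [M.IsPrime] (x σ : G)
    (ρ : Representation ℂ G (Fin d → ℂ)) {m : ℕ}
    (hm : (Nat.card (Subgroup.centralizer ({x} : Set G)) : ℂ)⁻¹ *
      ∑ s : Subgroup.centralizer ({x} : Set G), ρ.character (s : G) = m) :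
    ∃ p : ℂ[X], p.Monic ∧ p.natDegree = m ∧ (∀ i, Cfsg.MemLocalRing M (p.coeff i)) ∧
      ∀ q : ℂ[X], p ∣ q →
        ∑ l ∈ Finset.range (q.natDegree + 1), q.coeff l • lam x ρ (orbital x σ ^ l) = 0 := by
  set E := lam x ρ 1 with hE
  set S := lam x ρ (orbital x σ) with hS
  have hSE : S * E = S := by
    rw [hS, hE, ← lam_mul x ρ _ 1 (fun g w w' => by
      simp [Matrix.one_apply, (act g).injective.eq_iff]), mul_one]
  have hES : E * S = S := by
    rw [hS, hE, ← lam_mul x ρ 1 _ (orbital_act x σ), one_mul]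
  have hEE : E * E = E := lam_one_idem x ρ
  set U := LinearMap.range E
  have hproj : LinearMap.IsProj U E := by
    refine ⟨fun v => LinearMap.mem_range_self E v, ?_⟩
    rintro v ⟨w, rfl⟩
    exact congrArg (fun f : Module.End ℂ (Fin d → ℂ) => f w) hEE
  have hdim : Module.finrank ℂ U = m := by
    have h1 := hproj.trace
    rw [hE, trace_lam_one, hm] at h1
    exact_mod_cast h1.symm
  have hSU : ∀ v ∈ U, S v ∈ U := fun v _ =>
    ⟨S v, congrArg (fun f : Module.End ℂ (Fin d → ℂ) => f v) hES⟩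
  set T : Module.End ℂ U := S.restrict hSU
  have hpow : ∀ (l : ℕ) (v : U), ((T ^ l) v : Fin d → ℂ) = lam x ρ (orbital x σ ^ l) v := by
    intro l
    induction l with
    | zero =>
      intro v
      rw [pow_zero, pow_zero]
      exact (hproj.map_id v v.2).symm
    | succ l ih =>
      intro v
      rw [pow_succ, pow_succ, lam_mul x ρ _ _ (orbital_act x σ)]
      show ((T ^ l) (T v) : Fin d → ℂ) = lam x ρ (orbital x σ ^ l) (S v)
      rw [ih]
      rfl
  have haeval : ∀ (q : ℂ[X]) (v : U), ((aeval T q) v : Fin d → ℂ) =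
      ∑ l ∈ Finset.range (q.natDegree + 1), q.coeff l • lam x ρ (orbital x σ ^ l) v := by
    intro q v
    rw [aeval_eq_sum_range, LinearMap.sum_apply, AddSubmonoidClass.coe_finsetSum]
    exact Finset.sum_congr rfl fun l _ => by rw [LinearMap.smul_apply, SetLike.val_smul, hpow]
  -- the roots are algebraic integers
  have hroot : ∀ μ : ℂ, T.charpoly.IsRoot μ → IsIntegral ℤ μ := by
    intro μ hμ
    obtain ⟨v, hv⟩ := ((Module.End.hasEigenvalue_iff_isRoot_charpoly T μ).2 hμ).exists_hasEigenvector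
    set q := (orbital x σ).charpoly with hq
    refine ⟨q, Matrix.charpoly_monic _, ?_⟩
    have h1 := Module.End.aeval_apply_of_hasEigenvector (p := q.map (algebraMap ℤ ℂ)) hv
    have h2 : (aeval T (q.map (algebraMap ℤ ℂ))) v = 0 := by
      refine Subtype.ext ?_
      rw [haeval, natDegree_map_eq_of_injective (algebraMap ℤ ℂ).injective_int]
      simp only [coeff_map, algebraMap_int_eq, Int.coe_castRingHom, ← LinearMap.smul_apply,
        ← LinearMap.sum_apply, lam_sum]
      rw [← aeval_eq_sum_range, hq, Matrix.aeval_self_charpoly]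
      simp [lam]
    rw [h2, eq_comm, smul_eq_zero] at h1
    have h3 := h1.resolve_right hv.2
    rwa [eval_map] at h3
  set p := T.charpoly
  refine ⟨p, T.charpoly_monic, ?_, fun i => ?_, fun q hq => ?_⟩
  · rw [LinearMap.charpoly_natDegree, hdim]
  · -- a product of `X - C μ`
    have hlift : p ∈ Polynomial.lifts (algebraMap AlgInt ℂ) := by
      rw [(IsAlgClosed.splits p).eq_prod_roots_of_monic T.charpoly_monic]
      refine Subsemiring.multiset_prod_mem _ _ fun f hf => ?_
      obtain ⟨μ, hμ, rfl⟩ := Multiset.mem_map.1 hf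
      exact ⟨X - C (⟨μ, hroot μ (isRoot_of_mem_roots hμ)⟩ : AlgInt), by rw [coe_mapRingHom, Polynomial.map_sub, map_X, map_C]; rfl⟩
    obtain ⟨r, hr⟩ := (lifts_iff_coeff_lifts p).1 hlift i
    rw [← hr]
    exact memLocalRing_of_isIntegral r.2
  · obtain ⟨r, rfl⟩ := hq
    have h0 : aeval T (p * r) = 0 := by rw [map_mul, T.aeval_self_charpoly, zero_mul]
    refine LinearMap.ext fun v => ?_
    have hv : E v ∈ U := LinearMap.mem_range_self E v
    have h1 := haeval (p * r) ⟨E v, hv⟩
    rw [h0] at h1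
    rw [LinearMap.sum_apply, LinearMap.zero_apply]
    refine Eq.trans (Finset.sum_congr rfl fun l _ => ?_) h1.symm
    rw [LinearMap.smul_apply]
    congr 1
    show _ = (lam x ρ (orbital x σ ^ l) * E) v
    rw [hE, ← lam_mul x ρ _ 1 (fun g w w' => by
      simp [Matrix.one_apply, (act g).injective.eq_iff]), mul_one]

variable {M : Ideal AlgInt} [M.IsPrime]

/-- Conjugation as an action on the group. -/
def conjPerm (H : Subgroup G) : H →* Equiv.Perm G where
  toFun h := (MulAut.conj (h : G)).toEquiv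
  map_one' := Equiv.ext fun g => by simp
  map_mul' a b := Equiv.ext fun g => by simp [mul_assoc]

/-- The action of a subgroup on the conjugates. -/
def actPerm (x : G) (H : Subgroup G) : H →* Equiv.Perm (Conjs x) where
  toFun h := act (h : G)
  map_one' := Equiv.ext fun w => Subtype.ext (by simp [act])
  map_mul' a b := Equiv.ext fun w => act_mul (a : G) (b : G) w

open Classical in
/-- A conjugate fixed by an abelian Sylow subgroup lies in it. -/
theorem mem_of_fixed (P : Sylow 2 G) {x : G} (hx : x ∈ (P : Subgroup G)) (w : Conjs x)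
    (hw : ∀ h : (P : Subgroup G), act (h : G) w = w) : w.1 ∈ (P : Subgroup G) := by
  set T := Subgroup.zpowers w.1 with hT
  have hTP : IsPGroup 2 T := by
    obtain ⟨c, hc⟩ := isConj_iff.1 w.2
    have hconj : T = (Subgroup.zpowers x).map (MulAut.conj c).toMonoidHom := by
      rw [hT, MonoidHom.map_zpowers]
      exact congrArg _ hc.symm
    rw [hconj]
    exact (P.2.to_le ((Subgroup.zpowers_le).2 hx)).map _
  have hle : (P : Subgroup G) ≤ Subgroup.normalizer (T : Set G) := by
    refine le_trans ?_ (Subgroup.centralizer_le_normalizer (T : Set G))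
    intro h hh
    rw [hT, Subgroup.mem_centralizer_iff]
    rintro t ⟨j, rfl⟩
    have e : h * w.1 * h⁻¹ = w.1 := congrArg Subtype.val (hw ⟨h, hh⟩)
    have hc : Commute h w.1 := mul_inv_eq_iff_eq_mul.1 e
    exact (hc.zpow_right j).eq.symm
  have h2 : IsPGroup 2 ((P : Subgroup G) ⊔ T : Subgroup G) :=
    IsPGroup.to_sup_of_normal_right' P.2 hTP hle
  have := P.3 h2 le_sup_left
  exact this ▸ (le_sup_right : T ≤ (P : Subgroup G) ⊔ T) (Subgroup.mem_zpowers _)

open Classical in
/-- Modulo 2, the only fixed point met by the `l`-th power is `σ ^ l x σ ^ -l`. -/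
theorem pow_fixed (hM : Cfsg.IsPModular 2 M) (P : Sylow 2 G)
    (hcomm : IsMulCommutative (P : Subgroup G)) {x σ : G} (hx : x ∈ (P : Subgroup G))
    (hσ : σ ∈ Subgroup.normalizer ((P : Subgroup G) : Set G))
    (hfus : ∀ g : G, g * x * g⁻¹ ∈ (P : Subgroup G) →
      g * (σ * x * σ⁻¹) * g⁻¹ ∈ (P : Subgroup G) →
      g * (σ * x * σ⁻¹) * g⁻¹ = σ * (g * x * g⁻¹) * σ⁻¹)
    (l : ℕ) (w : Conjs x) (hw : ∀ h : (P : Subgroup G), act (h : G) w = w) :
    ((orbital x σ ^ l) (base x) w : Res M) = if w.1 = σ ^ l * x * (σ ^ l)⁻¹ then 1 else 0 := by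
  haveI : Fact (Nat.Prime 2) := ⟨Nat.prime_two⟩
  haveI := charP_res hM
  haveI := hcomm
  have hbase : ∀ h : (P : Subgroup G), act (h : G) (base x) = base x := fun h => Subtype.ext (by
    show (h : G) * x * (h : G)⁻¹ = x
    rw [show (h : G) * x = x * h from
      congrArg Subtype.val (mul_comm' h (⟨x, hx⟩ : (P : Subgroup G))), mul_inv_cancel_right])
  induction l generalizing w with
  | zero =>
    simp only [pow_zero, Matrix.one_apply, inv_one, mul_one, one_mul]
    by_cases e : base x = w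
    · rw [if_pos e, if_pos (show w.1 = x from (congrArg Subtype.val e).symm), Int.cast_one]
    · rw [if_neg e, if_neg (fun (e' : w.1 = x) => e (Subtype.ext e'.symm)), Int.cast_zero]
  | succ l ih =>
    rw [pow_succ, Matrix.mul_apply, Int.cast_sum,
      sum_eq_sum_fixed P.2 (actPerm x (P : Subgroup G))
        (fun v => (((orbital x σ ^ l) (base x) v * orbital x σ v w : ℤ) : Res M)) (fun h v => by
          show (((orbital x σ ^ l) (base x) (act (h : G) v) * orbital x σ (act (h : G) v) w : ℤ) :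
            Res M) = _
          conv_lhs => rw [← hbase h, ← hw h]
          rw [pow_act, orbital_act])]
    have hmem : σ ^ l * x * (σ ^ l)⁻¹ ∈ (P : Subgroup G) :=
      (Subgroup.mem_normalizer_iff.1 (pow_mem hσ l) x).1 hx
    set v₀ : Conjs x := ⟨σ ^ l * x * (σ ^ l)⁻¹, isConj_iff.2 ⟨σ ^ l, rfl⟩⟩
    have hv₀ : ∀ h : (P : Subgroup G), act (h : G) v₀ = v₀ := fun h => Subtype.ext (by
      show (h : G) * (σ ^ l * x * (σ ^ l)⁻¹) * (h : G)⁻¹ = _
      rw [show (h : G) * (σ ^ l * x * (σ ^ l)⁻¹) = (σ ^ l * x * (σ ^ l)⁻¹) * h from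
        congrArg Subtype.val (mul_comm' h (⟨_, hmem⟩ : (P : Subgroup G))), mul_inv_cancel_right])
    rw [Finset.sum_eq_single v₀]
    · rw [Int.cast_mul, ih v₀ hv₀, if_pos rfl, one_mul]
      have hiff : (∃ g : G, g * x * g⁻¹ = v₀.1 ∧ g * (σ * x * σ⁻¹) * g⁻¹ = w.1) ↔
          w.1 = σ ^ (l + 1) * x * (σ ^ (l + 1))⁻¹ := by
        constructor
        · rintro ⟨g, h1, h2⟩
          have := hfus g (h1 ▸ hmem) (h2 ▸ mem_of_fixed P hx w hw)
          rw [h1, h2] at this
          rw [this]
          show σ * (σ ^ l * x * (σ ^ l)⁻¹) * σ⁻¹ = _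
          rw [pow_succ']
          group
        · intro e
          refine ⟨σ ^ l, rfl, ?_⟩
          rw [e, pow_succ]
          group
      by_cases hc : w.1 = σ ^ (l + 1) * x * (σ ^ (l + 1))⁻¹
      · rw [if_pos hc, orbital, if_pos (hiff.2 hc), Int.cast_one]
      · rw [if_neg hc, orbital, if_neg (fun h => hc (hiff.1 h)), Int.cast_zero]
    · intro v hv hne
      rw [Finset.mem_filter] at hv
      rw [Int.cast_mul, ih v (fun h => hv.2 h),
        if_neg fun e => hne (Subtype.ext e), zero_mul]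
    · intro h
      rw [Finset.mem_filter] at h
      exact absurd ⟨Finset.mem_univ _, hv₀⟩ h

open Classical in
/-- The coefficient sum at a target `n` in the normalizer reduces to a coefficient at the base
point. -/
theorem red_target (hM : Cfsg.IsPModular 2 M) (P : Sylow 2 G)
    (hcomm : IsMulCommutative (P : Subgroup G)) {x n : G} (hx : x ∈ (P : Subgroup G))
    (hn : n ∈ Subgroup.normalizer ((P : Subgroup G) : Set G))
    (a : Matrix (Conjs x) (Conjs x) ℤ) (ha : ∀ g w w', a (act g w) (act g w') = a w w') :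
    red M (∑ u : G, (a (base x) (act (n * u⁻¹) (base x)) : localRing M) *
      ⟨_, memLocalRing_principalCoeff u⟩) = (a (base x) (act n (base x)) : Res M) := by
  haveI : Fact (Nat.Prime 2) := ⟨Nat.prime_two⟩
  haveI := charP_res hM
  haveI := hcomm
  set c : G → Res M := fun u => red M ⟨_, memLocalRing_principalCoeff u⟩ with hc
  have hcc : ∀ (h : (P : Subgroup G)) (u : G), c (conjPerm (P : Subgroup G) h u) = c u := fun h u =>
    congrArg (red M) (Subtype.ext (blockCoeff_conj _ u (h : G)))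
  have hxh : ∀ h : (P : Subgroup G), (h : G) * x = x * h := fun h =>
    congrArg Subtype.val (mul_comm' h (⟨x, hx⟩ : (P : Subgroup G)))
  simp only [map_sum, map_mul, map_intCast]
  rw [sum_eq_sum_fixed P.2 (conjPerm (P : Subgroup G))
    (fun u => (a (base x) (act (n * u⁻¹) (base x)) : Res M) * c u) (fun h u => by
      show _ * c (conjPerm _ h u) = _ * c u
      rw [hcc]
      congr 2
      have hmem : n * (h : G) * n⁻¹ ∈ (P : Subgroup G) :=
        (Subgroup.mem_normalizer_iff.1 hn _).1 h.2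
      conv_rhs => rw [← ha (n * (h : G) * n⁻¹)]
      congr 1
      · exact Subtype.ext (show x = n * (h : G) * n⁻¹ * x * (n * (h : G) * n⁻¹)⁻¹ by
          rw [hxh ⟨_, hmem⟩, mul_inv_cancel_right])
      · refine Subtype.ext ?_
        show n * ((h : G) * u * (h : G)⁻¹)⁻¹ * x * (n * ((h : G) * u * (h : G)⁻¹)⁻¹)⁻¹ =
          n * (h : G) * n⁻¹ * (n * u⁻¹ * x * (n * u⁻¹)⁻¹) * (n * (h : G) * n⁻¹)⁻¹
        calc n * ((h : G) * u * (h : G)⁻¹)⁻¹ * x * (n * ((h : G) * u * (h : G)⁻¹)⁻¹)⁻¹
            = n * (h : G) * u⁻¹ * ((h : G)⁻¹ * (x * (h : G))) * u * (h : G)⁻¹ * n⁻¹ := by group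
          _ = _ := by rw [← hxh h]; group)]
  rw [Finset.sum_congr rfl (g := fun u => (a (base x) (act n (base x)) : Res M) * c u) fun u hu => ?_,
    ← Finset.mul_sum, ← sum_eq_sum_fixed P.2 (conjPerm (P : Subgroup G)) c hcc]
  · have h1 : ∑ u : G, (⟨_, memLocalRing_principalCoeff u⟩ : localRing M) = 1 := Subtype.ext (by
      rw [AddSubmonoidClass.coe_finsetSum, OneMemClass.coe_one]
      exact sum_blockCoeff)
    rw [show (∑ u : G, c u) = red M 1 by rw [← h1, map_sum], map_one, mul_one]
  · rw [Finset.mem_filter] at hu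
    have e : (x : G) * u * x⁻¹ = u := hu.2 ⟨x, hx⟩
    have e' : x * u = u * x := mul_inv_eq_iff_eq_mul.1 e
    refine congrArg (fun z => (a (base x) z : Res M) * c u) (Subtype.ext ?_)
    show n * u⁻¹ * x * (n * u⁻¹)⁻¹ = n * x * n⁻¹
    calc n * u⁻¹ * x * (n * u⁻¹)⁻¹ = n * (u⁻¹ * (x * u)) * n⁻¹ := by group
      _ = _ := by rw [e']; group

open Classical in
/-- A monic relation of degree the sum of the multiplicities between the coefficient sums. -/
theorem exists_relation (x σ : G) (m : IrrCharacter G → ℕ)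
    (hm : ∀ χ ∈ Cfsg.principalBlock M G, (Nat.card (Subgroup.centralizer ({x} : Set G)) : ℂ)⁻¹ *
      ∑ s : Subgroup.centralizer ({x} : Set G), (χ : G → ℂ) (s : G) = m χ) :
    ∃ c : ℕ → localRing M, c (∑ χ ∈ (Cfsg.principalBlock M G).toFinset, m χ) = 1 ∧ ∀ n : G,
      ∑ l ∈ Finset.range ((∑ χ ∈ (Cfsg.principalBlock M G).toFinset, m χ) + 1),
        c l * ∑ u : G, ((orbital x σ ^ l) (base x) (act (n * u⁻¹) (base x)) : localRing M) *
          ⟨_, memLocalRing_principalCoeff u⟩ = 0 := by
  set B := Cfsg.principalBlock M G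
  have hrep : ∀ χ : IrrCharacter G, ∃ (d : ℕ) (ρ : Representation ℂ G (Fin d → ℂ)),
      ρ.character = (χ : G → ℂ) := fun χ => by
    obtain ⟨d, ρ, -, e⟩ := χ.2
    exact ⟨d, ρ, e⟩
  choose d ρ hρ using hrep
  have hann := fun χ (hχ : χ ∈ B) => exists_annihilator (M := M) x σ (ρ χ) (m := m χ)
    (by simp only [hρ]; exact hm χ hχ)
  choose p hp1 hp2 hp3 hp4 using hann
  set q : ℂ[X] := ∏ χ ∈ B.toFinset.attach, p χ.1 (Set.mem_toFinset.1 χ.2) with hq
  set D := q.natDegree with hD
  have hq1 : q.Monic := monic_prod_of_monic _ _ fun χ _ => hp1 _ _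
  have hDeq : D = ∑ χ ∈ B.toFinset, m χ := by
    rw [hD, hq, natDegree_prod_of_monic _ _ fun χ _ => hp1 _ _,
      Finset.sum_congr rfl fun χ _ => hp2 _ _, Finset.sum_attach B.toFinset m]
  have hqc : ∀ i, Cfsg.MemLocalRing M (q.coeff i) := by
    have hlift : q ∈ Polynomial.lifts (localRing M).subtype := by
      refine Subsemiring.prod_mem _ fun χ _ => ?_
      rw [lifts_iff_coeff_lifts]
      exact fun i => ⟨⟨_, hp3 _ _ i⟩, rfl⟩
    intro i
    obtain ⟨r, hr⟩ := (lifts_iff_coeff_lifts q).1 hlift i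
    rw [← hr]
    exact r.2
  rw [← hDeq]
  refine ⟨fun l => ⟨q.coeff l, hqc l⟩, Subtype.ext hq1.coeff_natDegree, fun n => Subtype.ext ?_⟩
  simp only [AddSubmonoidClass.coe_finsetSum, Subring.coe_mul, SubringClass.coe_intCast,
    ZeroMemClass.coe_zero]
  have hchi : ∀ χ : IrrCharacter G, χ ∈ B → ∑ l ∈ Finset.range (D + 1), q.coeff l *
      ∑ h : G, ((orbital x σ ^ l) (base x) (act h (base x)) : ℂ) *
        (χ : G → ℂ) (n⁻¹ * h) = 0 := by
    intro χ hχ
    have h0 := hp4 χ hχ q (Finset.dvd_prod_of_mem _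
      (Finset.mem_attach _ ⟨χ, Set.mem_toFinset.2 hχ⟩))
    have h1 := congrArg (fun f => LinearMap.trace ℂ _ (ρ χ n⁻¹ * f)) h0
    simp only [lam, Finset.mul_sum, mul_smul_comm, map_sum, map_smul, mul_zero, map_zero,
      smul_eq_mul, ← map_mul] at h1
    refine ((mul_eq_zero (a := (Nat.card (Subgroup.centralizer ({x} : Set G)) : ℂ)⁻¹)).1 ?_).resolve_left
      (inv_ne_zero (Nat.cast_ne_zero.2 Nat.card_pos.ne'))
    rw [Finset.mul_sum]
    refine Eq.trans (Finset.sum_congr rfl fun l _ => ?_) h1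
    simp only [Finset.mul_sum, ← hρ, Representation.character, map_mul]
    exact Finset.sum_congr rfl fun h _ => by ring
  have hu : ∀ l : ℕ, ∑ u : G, ((orbital x σ ^ l) (base x) (act (n * u⁻¹) (base x)) : ℂ) *
      Cfsg.blockCoeff B u = ∑ χ : IrrCharacter G, (if χ ∈ B then (Nat.card G : ℂ)⁻¹ * (χ : G → ℂ) 1 *
        ∑ h : G, ((orbital x σ ^ l) (base x) (act h (base x)) : ℂ) * (χ : G → ℂ) (n⁻¹ * h)
        else 0) := by
    intro l
    rw [Fintype.sum_equiv ((Equiv.inv G).trans (Equiv.mulLeft n)) _ (fun h : G =>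
      ((orbital x σ ^ l) (base x) (act h (base x)) : ℂ) * Cfsg.blockCoeff B (h⁻¹ * n)) fun u => by
        simp [mul_assoc]]
    simp only [blockCoeff_eq_sum, Finset.mul_sum]
    rw [Finset.sum_comm]
    refine Finset.sum_congr rfl fun χ _ => ?_
    by_cases hχ : χ ∈ B
    · simp only [if_pos hχ]
      refine Finset.sum_congr rfl fun h _ => ?_
      rw [← Characters.character_inv (Characters.isCharacter_of_isIrr χ.2), mul_inv_rev, inv_inv]
      ring
    · simp [hχ]
  refine Eq.trans (Finset.sum_congr rfl fun l _ => congrArg (q.coeff l * ·) (hu l)) ?_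
  simp only [Finset.mul_sum]
  rw [Finset.sum_comm]
  refine Finset.sum_eq_zero fun χ _ => ?_
  by_cases hχ : χ ∈ B
  · have h2 := congrArg (fun z : ℂ => (Nat.card G : ℂ)⁻¹ * (χ : G → ℂ) 1 * z) (hchi χ hχ)
    simp only [Finset.mul_sum, mul_zero] at h2
    simp only [if_pos hχ]
    refine Eq.trans (Finset.sum_congr rfl fun l _ => ?_) h2
    first
      | (simp only [Finset.mul_sum]; exact Finset.sum_congr rfl fun h _ => by ring)
      | exact Finset.sum_congr rfl fun h _ => by ring
  · simp [hχ]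

open Classical in
/-- The bound. -/
theorem le_sum_mult (hM : Cfsg.IsPModular 2 M) (P : Sylow 2 G)
    (hcomm : IsMulCommutative (P : Subgroup G)) {x σ : G} (hx : x ∈ (P : Subgroup G))
    (hσ : σ ∈ Subgroup.normalizer ((P : Subgroup G) : Set G))
    (hfus : ∀ g : G, g * x * g⁻¹ ∈ (P : Subgroup G) →
      g * (σ * x * σ⁻¹) * g⁻¹ ∈ (P : Subgroup G) →
      g * (σ * x * σ⁻¹) * g⁻¹ = σ * (g * x * g⁻¹) * σ⁻¹)
    {L : ℕ} (hL : ∀ l D : ℕ, l < D → D < L → σ ^ l * x * (σ ^ l)⁻¹ ≠ σ ^ D * x * (σ ^ D)⁻¹)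
    (m : IrrCharacter G → ℕ)
    (hm : ∀ χ ∈ Cfsg.principalBlock M G, (Nat.card (Subgroup.centralizer ({x} : Set G)) : ℂ)⁻¹ *
      ∑ s : Subgroup.centralizer ({x} : Set G), (χ : G → ℂ) (s : G) = m χ) :
    L ≤ ∑ χ ∈ (Cfsg.principalBlock M G).toFinset, m χ := by
  haveI : Fact (Nat.Prime 2) := ⟨Nat.prime_two⟩
  by_contra hlt
  push Not at hlt
  obtain ⟨c, hc1, hc0⟩ := exists_relation (M := M) x σ m hm
  set D := ∑ χ ∈ (Cfsg.principalBlock M G).toFinset, m χ
  have h := congrArg (red M) (hc0 (σ ^ D))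
  simp only [map_sum, map_zero, map_mul] at h
  rw [Finset.sum_eq_single D] at h
  · simp only [← map_mul, ← map_sum, hc1, one_mul] at h
    rw [red_target hM P hcomm hx (pow_mem hσ D) _ (fun g w w' => pow_act x σ g D w w'),
      pow_fixed hM P hcomm hx hσ hfus D _ (fun h' => ?_),
      if_pos (show (act (σ ^ D) (base x)).1 = σ ^ D * x * (σ ^ D)⁻¹ from rfl)] at h
    · exact one_ne_zero h
    · refine Subtype.ext ?_
      show (h' : G) * (σ ^ D * x * (σ ^ D)⁻¹) * (h' : G)⁻¹ = _
      haveI := hcomm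
      rw [show (h' : G) * (σ ^ D * x * (σ ^ D)⁻¹) = (σ ^ D * x * (σ ^ D)⁻¹) * h' from
        congrArg Subtype.val (mul_comm' h' (⟨_, (Subgroup.mem_normalizer_iff.1 (pow_mem hσ D) x).1 hx⟩ :
          (P : Subgroup G))), mul_inv_cancel_right]
      rfl
  · intro l hl hne
    simp only [← map_mul, ← map_sum]
    rw [map_mul, red_target hM P hcomm hx (pow_mem hσ D) _ (fun g w w' => pow_act x σ g l w w'),
      pow_fixed hM P hcomm hx hσ hfus l _ (fun h' => ?_), if_neg ?_, mul_zero]
    · exact fun e => hL l D (by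
        have := Finset.mem_range.1 hl
        omega) hlt e.symm
    · refine Subtype.ext ?_
      show (h' : G) * (σ ^ D * x * (σ ^ D)⁻¹) * (h' : G)⁻¹ = _
      haveI := hcomm
      rw [show (h' : G) * (σ ^ D * x * (σ ^ D)⁻¹) = (σ ^ D * x * (σ ^ D)⁻¹) * h' from
        congrArg Subtype.val (mul_comm' h' (⟨_, (Subgroup.mem_normalizer_iff.1 (pow_mem hσ D) x).1 hx⟩ :
          (P : Subgroup G))), mul_inv_cancel_right]
      rfl
  · exact fun hD => absurd (Finset.self_mem_range_succ D) hD

end CfsgLib.RankOneInvolution
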