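import Cfsg.Agent.BlocksFrobenius.Columns
import Cfsg.Agent.Indicator.Basic
import Cfsg.Agent.Star.Section

/-!
# Square roots and involutions with an elementary abelian Sylow 2-subgroup

`sq g` counts the square roots of `g` and `invs g` the involutions commuting with `g`; on elements
of odd order `sq = 1 + invs`, elsewhere `sq = 0`.
-/

set_option autoImplicit false
set_option linter.unusedSectionVars false
set_option linter.style.haveILetI false

namespace CfsgLib.RankOneInvolution

open Cfsg
open scoped ComplexConjugate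

universe u

variable {G : Type u} [Group G] [Fintype G]

open Classical in
/-- The number of involutions commuting with `g`. -/
noncomputable def invs (g : G) : ℂ :=
  ((Finset.univ.filter fun t : G => (t * t = 1 ∧ t ≠ 1) ∧ t * g = g * t).card : ℂ)

open Classical in
/-- The number of square roots of `g`. -/
noncomputable def sqRoots (g : G) : ℂ :=
  ((Finset.univ.filter fun r : G => r * r = g).card : ℂ)

theorem isClassFunction_invs : Cfsg.IsClassFunction G (invs (G := G)) := by
  classical
  intro g h
  refine congrArg (Nat.cast (R := ℂ)) (Finset.card_equiv (MulAut.conj h⁻¹).toEquiv fun t => ?_)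
  simp only [MulEquiv.toEquiv_eq_coe, MulEquiv.coe_toEquiv, Finset.mem_filter, Finset.mem_univ,
    true_and, ne_eq, EmbeddingLike.map_eq_one_iff, ← map_mul, MulAut.conj_apply, inv_inv]
  refine and_congr (and_congr ?_ ⟨fun e e' => e ?_, fun e e' => e (by rw [e']; group)⟩) ?_
  · constructor
    · intro e
      calc h⁻¹ * t * h * (h⁻¹ * t * h) = h⁻¹ * (t * t) * h := by group
        _ = 1 := by rw [e]; group
    · intro e
      calc t * t = h * (h⁻¹ * t * h * (h⁻¹ * t * h)) * h⁻¹ := by group
        _ = 1 := by rw [e]; group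
  · calc t = h * (h⁻¹ * t * h) * h⁻¹ := by group
      _ = 1 := by rw [e']; group
  · constructor
    · intro e
      calc h⁻¹ * t * h * g = h⁻¹ * (t * (h * g * h⁻¹)) * h := by group
        _ = _ := by rw [e]; group
    · intro e
      calc t * (h * g * h⁻¹) = h * ((h⁻¹ * t * h) * g) * h⁻¹ := by group
        _ = _ := by rw [e]; group

theorem isClassFunction_sqRoots : Cfsg.IsClassFunction G (sqRoots (G := G)) := by
  classical
  intro g h
  refine congrArg (Nat.cast (R := ℂ)) (Finset.card_equiv (MulAut.conj h⁻¹).toEquiv fun t => ?_)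
  simp only [MulEquiv.toEquiv_eq_coe, MulEquiv.coe_toEquiv, Finset.mem_filter, Finset.mem_univ,
    true_and, MulAut.conj_apply, inv_inv]
  constructor
  · intro e
    calc h⁻¹ * t * h * (h⁻¹ * t * h) = h⁻¹ * (t * t) * h := by group
      _ = g := by rw [e]; group
  · intro e
    calc t * t = h * (h⁻¹ * t * h * (h⁻¹ * t * h)) * h⁻¹ := by group
      _ = h * g * h⁻¹ := by rw [e]

theorem conj_invs (g : G) : conj (invs g) = invs g := Complex.conj_natCast _

/-- The multiplicity of `χ` in the root count is the indicator. -/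
theorem classInner_sqRoots (χ : IrrCharacter G) :
    Cfsg.classInner (sqRoots (G := G)) (χ : G → ℂ) = conj (FSIndicator.nu (χ : G → ℂ)) := by
  classical
  rw [FSIndicator.nu, map_mul, map_inv₀, Complex.conj_natCast, map_sum, Cfsg.classInner]
  congr 1
  simp only [sqRoots, Finset.card_filter, Nat.cast_sum, Nat.cast_ite, Nat.cast_one, Nat.cast_zero,
    Finset.sum_mul, ite_mul, one_mul, zero_mul]
  rw [Finset.sum_comm]
  exact Finset.sum_congr rfl fun r _ => by simp

/-- An element of odd order has as many square roots as elements of square one commuting with it. -/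
theorem sqRoots_eq_of_odd {g : G} (hg : ¬ 2 ∣ orderOf g) : sqRoots g = 1 + invs g := by
  classical
  obtain ⟨k, hk⟩ : Odd (orderOf g) := Nat.not_even_iff_odd.1 fun he => hg (even_iff_two_dvd.1 he)
  set s := g ^ (k + 1) with hs
  have hss : s * s = g := by
    rw [hs, ← pow_add, show k + 1 + (k + 1) = orderOf g + 1 by omega, pow_succ, pow_orderOf_eq_one,
      one_mul]
  have hcomm : ∀ r : G, Commute r g → Commute r s := fun r hr => hr.pow_right _
  have hfil : (Finset.univ.filter fun r : G => r * r = g).card =
      (Finset.univ.filter fun t : G => t * t = 1 ∧ t * g = g * t).card := by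
    refine Finset.card_equiv (Equiv.mulRight s⁻¹) fun r => ?_
    simp only [Finset.mem_filter, Finset.mem_univ, true_and, Equiv.coe_mulRight]
    constructor
    · intro hr
      have hrg : Commute r g := hr ▸ (Commute.refl r).mul_right (Commute.refl r)
      have hrs : Commute r s⁻¹ := (hcomm r hrg).inv_right
      refine ⟨?_, ((hrg.mul_left (Commute.inv_left ((Commute.refl g).pow_left _))) :
        Commute (r * s⁻¹) g).eq⟩
      calc r * s⁻¹ * (r * s⁻¹) = r * (s⁻¹ * r) * s⁻¹ := by group
        _ = r * (r * s⁻¹) * s⁻¹ := by rw [hrs.eq]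
        _ = (r * r) * (s * s)⁻¹ := by group
        _ = 1 := by rw [hr, hss, mul_inv_cancel]
    · rintro ⟨h1, h2⟩
      have hts : Commute (r * s⁻¹) s := hcomm _ h2
      calc r * r = (r * s⁻¹) * (s * (r * s⁻¹)) * s := by group
        _ = (r * s⁻¹) * ((r * s⁻¹) * s) * s := by rw [hts.eq]
        _ = (r * s⁻¹ * (r * s⁻¹)) * (s * s) := by group
        _ = g := by rw [h1, hss, one_mul]
  rw [sqRoots, invs, hfil, ← Nat.cast_one, ← Nat.cast_add]
  congr 1
  rw [show (Finset.univ.filter fun t : G => t * t = 1 ∧ t * g = g * t) = insert 1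
    (Finset.univ.filter fun t : G => (t * t = 1 ∧ t ≠ 1) ∧ t * g = g * t) by
      ext t
      simp only [Finset.mem_filter, Finset.mem_univ, true_and, Finset.mem_insert]
      by_cases ht : t = 1 <;> simp [ht],
    Finset.card_insert_of_notMem (by simp), add_comm]

variable {P : Sylow 2 G}

/-- An element of order divisible by two is no square. -/
theorem sqRoots_eq_zero [Fact (Nat.Prime 2)] (hsq : ∀ y ∈ (P : Subgroup G), y * y = 1) {u : G}
    (hu : 2 ∣ orderOf u) : sqRoots u = 0 := by
  classical
  rw [sqRoots, Nat.cast_eq_zero, Finset.card_eq_zero, Finset.filter_eq_empty_iff]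
  intro r _ hr
  obtain ⟨s, hs, hc, ⟨k, hk⟩, hso⟩ := Star.pPart_spec (p := 2) r
  set a := Star.pPart 2 r
  obtain ⟨Q, hQ⟩ := (IsPGroup.of_card (p := 2) (n := k)
    (show Nat.card (Subgroup.zpowers a) = 2 ^ k by rw [Nat.card_zpowers, hk])).exists_le_sylow
  obtain ⟨c, hcQ⟩ := MulAction.exists_smul_eq G Q P
  have hmem : c * a * c⁻¹ ∈ (P : Subgroup G) := by
    rw [← hcQ]
    exact ⟨a, hQ (Subgroup.mem_zpowers a), rfl⟩
  have haa : a * a = 1 := by
    calc a * a = c⁻¹ * (c * a * c⁻¹ * (c * a * c⁻¹)) * c := by group
      _ = 1 := by rw [hsq _ hmem]; group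
  have : u = s * s := by
    rw [← hr, ← hs]
    calc a * s * (a * s) = a * (s * a) * s := by group
      _ = (a * a) * (s * s) := by rw [← hc.eq]; group
      _ = s * s := by rw [haa, one_mul]
  rw [this, ← sq] at hu
  exact hso (hu.trans (orderOf_pow_dvd 2))

end CfsgLib.RankOneInvolution
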