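import Cfsg.Agent.BlocksFrobenius.Columns
import Cfsg.Agent.BlocksCharsC.ElementarySixteenBlock
import Cfsg.Agent.Transfer.Fusion

/-!
# An abelian Sylow 2-subgroup: fusion and the count of the principal block

If the inertial group fixes the subgroup `F` of `P` and is free outside it, the elements outside `F`
have centralizers with normal 2-complements and Brauer's count of the principal block reads
`|A| k = |A| l + |A| r (|F| - 1) + (|P| - |F|)`.
-/

set_option autoImplicit false
set_option linter.unusedSectionVars false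
set_option linter.style.haveILetI false

namespace CfsgLib.RankOneInvolution

open Cfsg CfsgLib.Blocks CfsgLib.PrincipalBlock CfsgLib.BlockPairing CfsgLib.BlocksFrobenius
open CfsgLib.BlocksCharsC (subContrib secInner secVal)
open scoped ComplexConjugate

universe u

variable {G : Type u} [Group G] [Fintype G] [Fact (Nat.Prime 2)]

theorem exists_conj_mem (P : Sylow 2 G) {g : G} (hg : ∃ k, orderOf g = 2 ^ k) :
    ∃ x ∈ (P : Subgroup G), IsConj g x := by
  obtain ⟨k, hk⟩ := hg
  have hp : IsPGroup 2 (Subgroup.zpowers g) :=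
    IsPGroup.of_card (n := k) (by rw [Nat.card_zpowers, hk])
  obtain ⟨Q, hQ⟩ := hp.exists_le_sylow
  obtain ⟨c, hc⟩ := MulAction.exists_smul_eq G Q P
  refine ⟨c * g * c⁻¹, ?_, isConj_iff.2 ⟨c, rfl⟩⟩
  rw [← hc]
  exact ⟨g, hQ (Subgroup.mem_zpowers g), rfl⟩

theorem exists_sylow_containing {P : Sylow 2 G} (hab : IsMulCommutative (P : Subgroup G)) {x : G}
    (hx : orderOf x = 2) :
    ∃ Q : Sylow 2 G, x ∈ (Q : Subgroup G) ∧ IsMulCommutative (Q : Subgroup G) ∧
      Nat.card (Q : Subgroup G) = Nat.card (P : Subgroup G) := by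
  obtain ⟨Q, hQ⟩ := (IsPGroup.of_card (p := 2) (n := 1)
    (show Nat.card (Subgroup.zpowers x) = 2 ^ 1 by rw [Nat.card_zpowers, hx, pow_one])).exists_le_sylow
  let e : (Q : Subgroup G) ≃* (P : Subgroup G) := Sylow.equiv Q P
  haveI := hab
  exact ⟨Q, hQ (Subgroup.mem_zpowers x),
    ⟨⟨fun a b => e.injective (by rw [map_mul, map_mul]; exact mul_comm' _ _)⟩⟩,
    Nat.card_congr e.toEquiv⟩

variable {P : Sylow 2 G} {M : Ideal AlgInt}

theorem mul_comm_mem (hab : IsMulCommutative (P : Subgroup G)) {x y : G}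
    (hx : x ∈ (P : Subgroup G)) (hy : y ∈ (P : Subgroup G)) : x * y = y * x :=
  congrArg Subtype.val
    (hab.is_comm.comm (⟨x, hx⟩ : (P : Subgroup G)) ⟨y, hy⟩)

theorem le_centralizer (hab : IsMulCommutative (P : Subgroup G)) {y : G}
    (hy : y ∈ (P : Subgroup G)) : (P : Subgroup G) ≤ Subgroup.centralizer ({y} : Set G) :=
  fun _ hw => Subgroup.mem_centralizer_singleton_iff.2 (mul_comm_mem hab hw hy)

theorem exists_aut_of_isConj (hab : IsMulCommutative (P : Subgroup G)) {y y' : (P : Subgroup G)}
    (hc : IsConj (y : G) (y' : G)) : ∃ f ∈ aut P, f y = y' := by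
  obtain ⟨g, hg⟩ := isConj_iff.1 hc
  obtain ⟨n, hn, e⟩ := CfsgLib.Transfer.controlsFusion_normalizer_of_isMulCommutative P hab
    (y : G) y.2 g (hg ▸ y'.2)
  exact ⟨_, ⟨⟨n, hn⟩, rfl⟩, Subtype.ext (by rw [coe_aut_apply, e, hg])⟩

/-- An element of `N(P) ∩ C(y)` gives an automorphism fixing `y`. -/
theorem aut_fix_of_commute {n : G} (hn : n ∈ Subgroup.normalizer ((P : Subgroup G) : Set G))
    {y : (P : Subgroup G)} (hny : n * y = y * n) :
    Subgroup.normalizerMonoidHom (P : Subgroup G) ⟨n, hn⟩ y = y :=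
  Subtype.ext (by rw [coe_aut_apply, hny, mul_inv_cancel_right])

theorem mem_centralizer_of_aut_eq_one {n : G}
    (hn : n ∈ Subgroup.normalizer ((P : Subgroup G) : Set G))
    (h : Subgroup.normalizerMonoidHom (P : Subgroup G) ⟨n, hn⟩ = 1) :
    n ∈ Subgroup.centralizer ((P : Subgroup G) : Set G) := by
  rw [← MonoidHom.mem_ker, Subgroup.normalizerMonoidHom_ker] at h
  exact h

/-- A point with trivial stabiliser has a normal 2-complement in its centralizer. -/
theorem exists_complement_at (hab : IsMulCommutative (P : Subgroup G)) {y : (P : Subgroup G)}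
    (hfree : ∀ f ∈ aut P, f y = y → f = 1) :
    ∃ K : Subgroup (Subgroup.centralizer ({(y : G)} : Set G)), K.Normal ∧ ¬ 2 ∣ Nat.card K ∧
      K.index = Nat.card (P : Subgroup G) := by
  have hle := le_centralizer hab y.2
  set S : Sylow 2 (Subgroup.centralizer ({(y : G)} : Set G)) := P.subtype hle
  have hmem : ∀ v : Subgroup.centralizer ({(y : G)} : Set G),
      v ∈ (S : Subgroup (Subgroup.centralizer ({(y : G)} : Set G))) ↔ (v : G) ∈ (P : Subgroup G) :=
    fun v => by rw [Sylow.coe_subtype, Subgroup.mem_subgroupOf]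
  have hS : Subgroup.normalizer (S : Set (Subgroup.centralizer ({(y : G)} : Set G))) ≤
      Subgroup.centralizer (S : Set (Subgroup.centralizer ({(y : G)} : Set G))) := by
    intro g hg
    have hgN : (g : G) ∈ Subgroup.normalizer ((P : Subgroup G) : Set G) := by
      refine Subgroup.mem_normalizer_iff.2 fun w => ⟨fun hw => ?_, fun hw => ?_⟩
      · exact (hmem _).1 ((Subgroup.mem_normalizer_iff.1 hg ⟨w, hle hw⟩).1 ((hmem _).2 hw))
      · have hw' : w ∈ Subgroup.centralizer ({(y : G)} : Set G) := by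
          have := mul_mem (mul_mem (inv_mem g.2) (hle hw)) g.2
          rwa [show (g : G)⁻¹ * ((g : G) * w * (g : G)⁻¹) * (g : G) = w by group] at this
        exact (hmem ⟨w, hw'⟩).1 ((Subgroup.mem_normalizer_iff.1 hg _).2 ((hmem _).2 hw))
    have hgC := mem_centralizer_of_aut_eq_one hgN (hfree _ ⟨_, rfl⟩
      (aut_fix_of_commute hgN (Subgroup.mem_centralizer_singleton_iff.1 g.2)))
    exact Subgroup.mem_centralizer_iff.2 fun w hw =>
      Subtype.ext (Subgroup.mem_centralizer_iff.1 hgC _ ((hmem w).1 hw))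
  refine ⟨(MonoidHom.transferSylow S hS).ker, inferInstance,
    MonoidHom.not_dvd_card_ker_transferSylow S hS, ?_⟩
  rw [(MonoidHom.ker_transferSylow_isComplement' S hS).symm.index_eq_card]
  exact Nat.card_congr (Subgroup.subgroupOfEquivOfLe hle).toEquiv

theorem not_two_dvd_card_aut (hab : IsMulCommutative (P : Subgroup G)) :
    ¬ 2 ∣ Nat.card (aut P) := by
  rw [card_aut]
  have hPC : (P : Subgroup G) ≤ Subgroup.centralizer ((P : Subgroup G) : Set G) := fun w hw =>
    Subgroup.mem_centralizer_iff.2 fun v hv => mul_comm_mem hab hv hw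
  exact fun h => P.not_dvd_index (h.trans ((Subgroup.relIndex_dvd_of_le_left _ hPC).trans
    (Subgroup.relIndex_dvd_index_of_le Subgroup.le_normalizer)))

variable [M.IsPrime]

open Classical in
/-- An element with a centralizer block of rank one has trivial stabiliser. -/
theorem free_of_rank_one (hM : Cfsg.IsPModular 2 M) (hab : IsMulCommutative (P : Subgroup G))
    {y : (P : Subgroup G)}
    (hl : Cfsg.blockRank 2
      (Cfsg.principalBlock M (Subgroup.centralizer ({(y : G)} : Set G))) = 1)
    {f : MulAut (P : Subgroup G)} (hf : f ∈ aut P) (hfy : f y = y) : f = 1 := by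
  set C := Subgroup.centralizer ({(y : G)} : Set G) with hC
  haveI : Fintype C := Fintype.ofFinite C
  obtain ⟨⟨n, hn⟩, rfl⟩ := hf
  set N := Subgroup.normalizer ((P : Subgroup G) : Set G) with hN
  have hnC : n ∈ C := Subgroup.mem_centralizer_singleton_iff.2
    (mul_inv_eq_iff_eq_mul.1 ((coe_aut_apply hn y).symm.trans (congrArg Subtype.val hfy)))
  rw [← MonoidHom.mem_ker, Subgroup.normalizerMonoidHom_ker]
  obtain ⟨s, hs, hcs, ⟨k, hk⟩, hso⟩ := Star.pPart_spec (p := 2) n
  have hpN : Star.pPart 2 n ∈ N := Subgroup.zpowers_le.2 hn (Star.pPart_mem_zpowers n)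
  have hpC : Star.pPart 2 n ∈ C := Subgroup.zpowers_le.2 hnC (Star.pPart_mem_zpowers n)
  have h2P : Star.pPart 2 n ∈ (P : Subgroup G) := by
    have hp : IsPGroup 2 (Subgroup.zpowers (Star.pPart 2 n)) :=
      IsPGroup.of_card (n := k) (by rw [Nat.card_zpowers, hk])
    have hsup : IsPGroup 2 ↥((P : Subgroup G) ⊔ Subgroup.zpowers (Star.pPart 2 n)) :=
      IsPGroup.to_sup_of_normal_left' P.isPGroup' hp (Subgroup.zpowers_le.2 hpN)
    exact (P.is_maximal' hsup le_sup_left) ▸ Subgroup.mem_sup_right (Subgroup.mem_zpowers _)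
  have hsN : s ∈ N := by
    rw [show s = (Star.pPart 2 n)⁻¹ * n by rw [eq_inv_mul_iff_mul_eq, hs]]
    exact mul_mem (inv_mem hpN) hn
  have hsC : s ∈ C := by
    rw [show s = (Star.pPart 2 n)⁻¹ * n by rw [eq_inv_mul_iff_mul_eq, hs]]
    exact mul_mem (inv_mem hpC) hnC
  show n ∈ Subgroup.centralizer ((P : Subgroup G) : Set G)
  rw [← hs]
  refine mul_mem (Subgroup.mem_centralizer_iff.2 fun z hz => mul_comm_mem hab hz h2P)
    (Subgroup.mem_centralizer_iff.2 fun z hz => ?_)
  have hzC : z ∈ C := le_centralizer hab y.2 hz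
  set S : C := ⟨s, hsC⟩
  set Z : C := ⟨z, hzC⟩
  have hSk := BlocksCharsC.Sixteen.mem_setKer_of_rank_one (M := M) (G := C) hl
    (g := S) (by rw [← Subgroup.orderOf_coe]; exact hso)
  have hcomm : S * Z * S⁻¹ * Z⁻¹ ∈ setKer (Cfsg.principalBlock M C) := by
    rw [show S * Z * S⁻¹ * Z⁻¹ = S * (Z * S⁻¹ * Z⁻¹) by group]
    exact mul_mem hSk ((setKer_normal _).conj_mem _ (inv_mem hSk) Z)
  have hcP : s * z * s⁻¹ * z⁻¹ ∈ (P : Subgroup G) :=
    mul_mem ((Subgroup.mem_normalizer_iff.1 hsN z).1 hz) (inv_mem hz)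
  have hone : s * z * s⁻¹ * z⁻¹ = 1 := by
    by_contra hne
    refine not_dvd_card_setKer hM ((?_ : 2 ∣ orderOf (S * Z * S⁻¹ * Z⁻¹)).trans
      (Subgroup.orderOf_dvd_natCard _ hcomm))
    rw [← Subgroup.orderOf_coe]
    exact BlocksFrobenius.dvd_orderOf_of_mem hcP hne
  exact (mul_inv_eq_iff_eq_mul.1 (mul_inv_eq_one.1 hone)).symm

/-- The principal block is the only one inducing to the principal block. -/
theorem sum_inducing_principal (hM : Cfsg.IsPModular 2 M) {x : G} (hx : ∃ k, orderOf x = 2 ^ k) :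
    ∑ᶠ b ∈ {b : Set (IrrCharacter (Subgroup.centralizer ({x} : Set G))) |
        Cfsg.IsInducedBlock M (Subgroup.centralizer ({x} : Set G)) b (Cfsg.principalBlock M G)},
        Cfsg.blockRank 2 b =
      Cfsg.blockRank 2 (Cfsg.principalBlock M (Subgroup.centralizer ({x} : Set G))) := by
  haveI := Fintype.ofFinite (Subgroup.centralizer ({x} : Set G))
  have hset : {b : Set (IrrCharacter (Subgroup.centralizer ({x} : Set G))) |
      Cfsg.IsInducedBlock M (Subgroup.centralizer ({x} : Set G)) b (Cfsg.principalBlock M G)} =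
      {Cfsg.principalBlock M (Subgroup.centralizer ({x} : Set G))} := by
    refine Set.eq_singleton_iff_unique_mem.2 ⟨?_, fun b hb => ?_⟩
    · obtain ⟨B', hB'⟩ := induced_setup hM hx (trivChar (Subgroup.centralizer ({x} : Set G)))
      have e : Cfsg.blockOf M ((trivChar (Subgroup.centralizer ({x} : Set G)) :
          IrrCharacter (Subgroup.centralizer ({x} : Set G))) : _ → ℂ) =
          Cfsg.principalBlock M (Subgroup.centralizer ({x} : Set G)) :=
        (principalBlock_eq (G := Subgroup.centralizer ({x} : Set G))).symm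
      exact (CfsgLib.BlocksLocal.isInducedBlock_principal_iff hM ⟨B', e ▸ hB'⟩).2 rfl
    · exact (CfsgLib.BlocksLocal.isInducedBlock_principal_iff hM ⟨_, hb⟩).1 hb
  rw [hset, finsum_mem_singleton]

theorem rank_free (hM : Cfsg.IsPModular 2 M) (hab : IsMulCommutative (P : Subgroup G))
    {y : (P : Subgroup G)} (hfree : ∀ f ∈ aut P, f y = y → f = 1) :
    Cfsg.blockRank 2 (Cfsg.principalBlock M (Subgroup.centralizer ({(y : G)} : Set G))) = 1 := by
  obtain ⟨K, hKn, hKodd, hKidx⟩ := exists_complement_at hab hfree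
  haveI := hKn
  haveI := Fintype.ofFinite (Subgroup.centralizer ({(y : G)} : Set G))
  obtain ⟨n, hn⟩ := P.2.exists_card_eq
  exact BlocksCharsC.Sixteen.blockRank_complement hM K hKodd ⟨n, hKidx.trans hn⟩

open Classical in
/-- Brauer's count. -/
theorem count (hM : Cfsg.IsPModular 2 M) (hab : IsMulCommutative (P : Subgroup G))
    (F : Subgroup G) (hFP : F ≤ (P : Subgroup G))
    (hfix : ∀ f ∈ aut P, ∀ w : (P : Subgroup G), (w : G) ∈ F → f w = w)
    (hfree : ∀ f ∈ aut P, ∀ w : (P : Subgroup G), (w : G) ∉ F → f w = w → f = 1) (r : ℕ)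
    (hr : ∀ u ∈ F, u ≠ 1 →
      Cfsg.blockRank 2 (Cfsg.principalBlock M (Subgroup.centralizer ({u} : Set G))) = r) :
    Nat.card (aut P) * Nat.card (Cfsg.principalBlock M G) =
      Nat.card (aut P) * Cfsg.blockRank 2 (Cfsg.principalBlock M G) +
        Nat.card (aut P) * r * (Nat.card F - 1) +
        (Nat.card (P : Subgroup G) - Nat.card F) := by
  haveI := Fintype.ofFinite (P : Subgroup G)
  haveI := Fintype.ofFinite (aut P)
  set g : G → ℕ := fun u =>
    Cfsg.blockRank 2 (Cfsg.principalBlock M (Subgroup.centralizer ({u} : Set G))) with hg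
  set R : ConjClasses G → G := fun c =>
    if h : ∃ v, v ∈ (P : Subgroup G) ∧ ConjClasses.mk v = c then h.choose else 1 with hR
  have hRs : ∀ u : (P : Subgroup G), R (ConjClasses.mk (u : G)) ∈ (P : Subgroup G) ∧
      IsConj (u : G) (R (ConjClasses.mk (u : G))) := by
    intro u
    have h : ∃ v, v ∈ (P : Subgroup G) ∧ ConjClasses.mk v = ConjClasses.mk (u : G) := ⟨u, u.2, rfl⟩
    simp only [hR, dif_pos h]
    exact ⟨h.choose_spec.1, (ConjClasses.mk_eq_mk_iff_isConj.1 h.choose_spec.2).symm⟩
  set π : ↥(P : Subgroup G) → ↥(P : Subgroup G) := fun u => ⟨_, (hRs u).1⟩ with hπ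
  have hπc : ∀ u : (P : Subgroup G), IsConj (u : G) (π u : G) := fun u => (hRs u).2
  have hπeq : ∀ u v : (P : Subgroup G), IsConj (u : G) (v : G) → π u = π v := fun u v h =>
    Subtype.ext (congrArg R (ConjClasses.mk_eq_mk_iff_isConj.2 h))
  clear_value π
  set Y := Finset.univ.image π with hY
  have hexp : ∀ u : (P : Subgroup G), ∃ k, orderOf (u : G) = 2 ^ k := fun u => isPow_of_mem u.2
  -- the count
  have hcount : Nat.card (Cfsg.principalBlock M G) = ∑ v ∈ Y, g (v : G) := by
    rw [card_block_eq_sum hM isPBlock_principalBlock (Y.image Subtype.val)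
      (fun x hx => by obtain ⟨v, -, rfl⟩ := Finset.mem_image.1 hx; exact hexp v) fun z hz => ?_,
      Finset.sum_image fun a _ b _ e => Subtype.ext e]
    · exact Finset.sum_congr rfl fun v _ => sum_inducing_principal hM (hexp v)
    · obtain ⟨u, hu, hzu⟩ := exists_conj_mem P hz
      refine ⟨(π ⟨u, hu⟩ : G), ⟨Finset.mem_image_of_mem _ (Finset.mem_image_of_mem _
        (Finset.mem_univ _)), hzu.trans (hπc ⟨u, hu⟩)⟩, ?_⟩
      rintro x ⟨hx, hzx⟩
      obtain ⟨v, hv, rfl⟩ := Finset.mem_image.1 hx
      obtain ⟨w, -, rfl⟩ := Finset.mem_image.1 hv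
      exact congrArg Subtype.val (hπeq w ⟨u, hu⟩ ((hπc w).trans (hzx.symm.trans hzu)))
  -- points of `F` are alone in their class
  have hone : ∀ a b : (P : Subgroup G), IsConj (a : G) (b : G) → (a : G) ∈ F → a = b := by
    intro a b hc ha
    obtain ⟨f, hf, e⟩ := exists_aut_of_isConj hab hc
    rw [← e, hfix f hf a ha]
  set w : ↥(P : Subgroup G) → ℕ := fun u =>
    if (u : G) ∈ F then Nat.card (aut P) * g u else 1 with hw
  have hfib : ∀ v ∈ Y, Nat.card (aut P) * g (v : G) =
      ∑ u ∈ Finset.univ.filter (fun u => π u = v), w u := by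
    intro v hv
    obtain ⟨u₀, -, rfl⟩ := Finset.mem_image.1 hv
    have hmem : ∀ u, π u = π u₀ ↔ IsConj (π u₀ : G) (u : G) := fun u =>
      ⟨fun e => e ▸ (hπc u).symm, fun h => hπeq u u₀ (h.symm.trans (hπc u₀).symm)⟩
    by_cases hvF : (π u₀ : G) ∈ F
    · rw [Finset.sum_eq_single (π u₀) (fun u hu hne => absurd
        (hone (π u₀) u ((hmem u).1 (Finset.mem_filter.1 hu).2) hvF).symm hne)
        (fun h => (h (Finset.mem_filter.2 ⟨Finset.mem_univ _, (hmem _).2 (IsConj.refl _)⟩)).elim)]
      simp [hw, hvF]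
    · have hnot : ∀ u, π u = π u₀ → (u : G) ∉ F := fun u e hu =>
        hvF ((hone u (π u₀) ((hmem u).1 e).symm hu) ▸ hu)
      rw [Finset.sum_congr rfl (g := fun _ => 1) fun u hu => by
          simp [hw, hnot u (Finset.mem_filter.1 hu).2], Finset.sum_const, smul_eq_mul, mul_one,
        show g (π u₀ : G) = 1 from rank_free hM hab fun f hf => hfree f hf _ hvF, mul_one, Nat.card_eq_fintype_card,
        ← Finset.card_univ]
      refine Finset.card_bij (fun (f : aut P) _ => f.1 (π u₀)) (fun f _ => ?_) (fun f _ h _ e => ?_)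
        fun u hu => ?_
      · exact Finset.mem_filter.2 ⟨Finset.mem_univ _, (hmem _).2 (isConj_aut f.2 _)⟩
      · have hfx : (h.1⁻¹ * f.1) (π u₀) = π u₀ := by
          rw [MulAut.mul_apply, e, ← MulAut.mul_apply, inv_mul_cancel, MulAut.one_apply]
        exact Subtype.ext
          (inv_mul_eq_one.1 (hfree _ (mul_mem (inv_mem h.2) f.2) _ hvF hfx)).symm
      · obtain ⟨f, hf, e⟩ := exists_aut_of_isConj hab ((hmem u).1 (Finset.mem_filter.1 hu).2)
        exact ⟨⟨f, hf⟩, Finset.mem_univ _, e⟩
  have hg1 : g 1 = Cfsg.blockRank 2 (Cfsg.principalBlock M G) :=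
    (sum_inducing_principal hM ⟨0, by simp⟩).symm.trans
      (CfsgLib.InertialQuotient.sum_blockRank_one hM isPBlock_principalBlock)
  rw [hcount, Finset.mul_sum, Finset.sum_congr rfl hfib,
    Finset.sum_fiberwise_of_maps_to fun u _ => Finset.mem_image_of_mem π (Finset.mem_univ u),
    Finset.sum_ite]
  simp only [Finset.sum_const, smul_eq_mul, mul_one]
  have hcF : (Finset.univ.filter fun u : (P : Subgroup G) => (u : G) ∈ F).card = Nat.card F := by
    rw [← Fintype.card_subtype, ← Nat.card_eq_fintype_card]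
    exact Nat.card_congr
      { toFun := fun u => ⟨u.1.1, u.2⟩
        invFun := fun u => ⟨⟨u.1, hFP u.2⟩, u.2⟩
        left_inv := fun _ => rfl
        right_inv := fun _ => rfl }
  have h1 : (1 : (P : Subgroup G)) ∈
      Finset.univ.filter fun u : (P : Subgroup G) => (u : G) ∈ F :=
    Finset.mem_filter.2 ⟨Finset.mem_univ _, one_mem F⟩
  rw [← Finset.add_sum_erase _ _ h1, OneMemClass.coe_one, hg1,
    Finset.sum_congr rfl (g := fun _ => Nat.card (aut P) * r) fun u hu => by
      obtain ⟨hne, hu'⟩ := Finset.mem_erase.1 hu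
      simp only [hg]
      rw [hr _ (Finset.mem_filter.1 hu').2 fun e => hne (Subtype.ext e)],
    Finset.sum_const, Finset.card_erase_of_mem h1, hcF, smul_eq_mul,
    mul_comm (Nat.card F - 1), Finset.filter_not, Finset.card_sdiff_of_subset (Finset.filter_subset _ _),
    hcF, Finset.card_univ, ← Nat.card_eq_fintype_card]

/-- Principal blocks have full defect. -/
theorem blockDefect_principal {H : Type u} [Group H] [Fintype H] {k : ℕ}
    (hv : (Nat.card H).factorization 2 = k) :
    Cfsg.blockDefect 2 (Cfsg.principalBlock M H) = k := by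
  have h2 := factorization_sub_le_blockDefect (p := 2)
    (trivChar_mem : trivChar H ∈ Cfsg.principalBlock M H)
  have h4 : Cfsg.blockDefect 2 (Cfsg.principalBlock M H) ≤ (Nat.card H).factorization 2 :=
    Nat.sub_le _ _
  have hdeg : Cfsg.charDegree ((trivChar H : IrrCharacter H) : H → ℂ) = 1 := by
    simp [Cfsg.charDegree, trivChar]
  rw [hdeg, Nat.factorization_one, Finsupp.zero_apply, Nat.sub_zero] at h2
  omega

open Classical in
/-- The column of an involution with a trivial stabiliser: nonzero integers of norm `|P|`. -/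
theorem exists_column (hM : Cfsg.IsPModular 2 M) (hab : IsMulCommutative (P : Subgroup G))
    {y : (P : Subgroup G)} (hy2 : (y : G) * y = 1) (hy1 : y ≠ 1)
    (hfree : ∀ f ∈ aut P, f y = y → f = 1) :
    ∃ d : IrrCharacter G → ℤ, (∀ χ ∈ Cfsg.principalBlock M G,
        (χ : G → ℂ) y = (d χ : ℂ) ∧ d χ ≠ 0) ∧
      ∑ χ ∈ (Cfsg.principalBlock M G).toFinset, d χ ^ 2 = (Nat.card (P : Subgroup G) : ℤ) := by
  choose d hd using fun χ : IrrCharacter G => Cfsg.Agent.S4512.int_value χ (y : G) hy2
  set C := Subgroup.centralizer ({(y : G)} : Set G) with hC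
  haveI := Fintype.ofFinite C
  obtain ⟨K, hKn, hK, hKi⟩ := exists_complement_at hab hfree
  haveI := hKn
  obtain ⟨n, hn⟩ := P.2.exists_card_eq
  have hy0 : (y : G) ≠ 1 := fun e => hy1 (Subtype.ext e)
  have hyo := isPow_of_mem (P := P) y.2
  refine ⟨d, fun χ hχ => ⟨hd χ, fun hzero => ?_⟩, ?_⟩
  · obtain ⟨B', hB'⟩ := induced_setup hM hyo (trivChar C)
    have e : Cfsg.blockOf M ((trivChar C : IrrCharacter C) : _ → ℂ) = Cfsg.principalBlock M C :=
      (principalBlock_eq (G := C)).symm
    have hind := (BlocksLocal.isInducedBlock_principal_iff hM ⟨B', e ▸ hB'⟩).2 rfl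
    have hdef : Cfsg.blockDefect 2 (Cfsg.principalBlock M C) =
        Cfsg.blockDefect 2 (Cfsg.principalBlock M G) := by
      have hG : (Nat.card G).factorization 2 = n := by
        have h1 := P.card_eq_multiplicity
        rw [hn] at h1
        exact (Nat.pow_right_injective le_rfl h1).symm
      have hH : (Nat.card C).factorization 2 = n := by
        rw [← K.index_mul_card, hKi, hn, Nat.factorization_mul (pow_ne_zero _ two_ne_zero)
          Nat.card_pos.ne', Finsupp.add_apply, Nat.factorization_eq_zero_of_not_dvd hK,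
          Nat.Prime.factorization_pow Nat.prime_two, Finsupp.single_eq_same, add_zero]
      rw [blockDefect_principal hH, blockDefect_principal hG]
    obtain ⟨k, hk⟩ := hyo
    refine BlocksCharsC.subContrib_ne_zero hM isPBlock_principalBlock hind hdef hk hχ
      (trivChar_mem : trivChar G ∈ Cfsg.principalBlock M G) ?_ ?_
    · show Cfsg.blockHeight 2 (Cfsg.principalBlock M G) _ = 0
      rw [principalBlock_eq (G := G)]
      exact BlocksLocal.blockHeight_trivChar
    · rw [subContrib, secInner, regInner, mul_eq_zero, mul_eq_zero]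
      refine Or.inr (Or.inr (Finset.sum_eq_zero fun s _ => ?_))
      split_ifs with hs
      · rfl
      · have hval : secVal (y : G) (Cfsg.principalBlock M C) (χ : G → ℂ) s =
            (χ : G → ℂ) ((y : G) * (s : G)) := by
          have h1 := BlocksLocal.blockPart_principal_translate hM ⟨k, hk⟩ χ hs
          rw [if_pos hχ, Cfsg.blockPart, finsum_irr_mem,
            show Fintype.ofFinite C = (inferInstance : Fintype C) from Subsingleton.elim _ _] at h1
          rw [← h1, secVal, ← Finset.sum_filter]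
          refine Finset.sum_congr ?_ fun η _ => rfl
          ext η
          simp only [Set.mem_toFinset, Finset.mem_filter, Finset.mem_univ, true_and]
          exact Iff.rfl
        rw [hval, ZStar.apply_mul_eq_of_mem hM ⟨k, hk⟩ hχ K hK
          (mem_of_regular K (hKi.trans hn) hs), hd, hzero]
        simp
  · apply Int.cast_injective (α := ℂ)
    push_cast
    have key : ∀ χ : IrrCharacter G,
        (if χ ∈ Cfsg.principalBlock M G then (χ : G → ℂ) y else 0) =
          ∑ k : C, Cfsg.blockCoeff (Cfsg.principalBlock M C) k *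
            (χ : G → ℂ) ((y : G) * (k : G)) := by
      intro χ
      have h := BlocksLocal.blockPart_principal_translate hM hyo χ (y := (1 : C))
        (by rw [orderOf_one]; exact Nat.prime_two.not_dvd_one)
      rw [blockPart_eq_sum _ (isClassFunction_translate (χ : G → ℂ)
        (Characters.isClassFunction_of_isIrr χ.2) (y : G))] at h
      simp only [mul_one, OneMemClass.coe_one] at h
      exact h.symm
    calc ∑ χ ∈ (Cfsg.principalBlock M G).toFinset, (d χ : ℂ) ^ 2
        = ∑ χ : IrrCharacter G, (∑ k : C, Cfsg.blockCoeff (Cfsg.principalBlock M C) k *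
            (χ : G → ℂ) ((y : G) * (k : G))) * conj ((χ : G → ℂ) y) := by
          rw [← Finset.sum_subset (Finset.subset_univ (Cfsg.principalBlock M G).toFinset)
            (fun χ _ hχ => by
              rw [← key, if_neg fun hm => hχ (Set.mem_toFinset.2 hm), zero_mul])]
          refine Finset.sum_congr rfl fun χ hχ => ?_
          rw [← key, if_pos (Set.mem_toFinset.1 hχ), hd, map_intCast, sq]
      _ = ∑ k : C, Cfsg.blockCoeff (Cfsg.principalBlock M C) k *
            (Nat.card {g : G // g * ((y : G) * (k : G)) * g⁻¹ = y} : ℂ) := by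
          simp only [Finset.sum_mul]
          rw [Finset.sum_comm]
          refine Finset.sum_congr rfl fun k _ => ?_
          rw [← Characters.sum_irr_mul_conj, Finset.mul_sum]
          exact Finset.sum_congr rfl fun χ _ => by ring
      _ = Cfsg.blockCoeff (Cfsg.principalBlock M C) 1 *
            (Nat.card {g : G // g * ((y : G) * ((1 : C) : G)) * g⁻¹ = y} : ℂ) := by
          refine Finset.sum_eq_single (1 : C) (fun k _ hk => ?_) (by simp)
          by_cases hreg : 2 ∣ orderOf k
          · rw [blockCoeff_eq_zero_of_singular hM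
              (isBlockUnion_of_isPBlock (isPBlock_principalBlock (G := C))) hreg, zero_mul]
          · haveI : IsEmpty {g : G // g * ((y : G) * (k : G)) * g⁻¹ = y} := ⟨fun g => hk ?_⟩
            · simp
            have hreg' : ¬ 2 ∣ orderOf (k : G) := by rwa [Subgroup.orderOf_coe]
            have h1 := isPPart_conj (isPPart_of_mul
              (Subgroup.mem_centralizer_singleton_iff.1 k.2).symm hyo hreg') g.1
            rw [g.2] at h1
            have h2 : Cfsg.IsPPart 2 (y : G) (y : G) := by
              have := isPPart_of_mul (p := 2) (Commute.one_right (y : G)) hyo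
                (by rw [orderOf_one]; exact Nat.prime_two.not_dvd_one)
              rwa [mul_one] at this
            have h3 := isPPart_unique Nat.prime_two h1 h2
            exact Subtype.ext
              (mul_eq_left.1 (mul_left_cancel (mul_right_cancel (g.2.trans h3.symm))))
      _ = (Nat.card (P : Subgroup G) : ℂ) := by
          have hbc := BlocksLocal.blockCoeff_principal_of_normal_complement hM K hK
            ⟨n, hKi.trans hn⟩ (1 : C)
          rw [Set.indicator_of_mem (SetLike.mem_coe.2 K.one_mem), hKi, mul_one] at hbc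
          simp only [OneMemClass.coe_one, mul_one]
          rw [← Characters.sum_irr_mul_conj,
            Characters.sum_irr_mul_conj_of_isConj (IsConj.refl _), mul_comm]
          exact hbc

end CfsgLib.RankOneInvolution
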