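import Cfsg.Agent.RankOneInvolution.Bound
import Cfsg.Agent.RankOneInvolution.Orbital
import Cfsg.Agent.RankOneInvolution.Setup
import Cfsg.Agent.BlocksFrobenius.IndexThree
import Cfsg.Agent.BlocksFrobenius.KleinShape
import Cfsg.Agent.Characters.FixedPoints

/-!
# The principal block for a semiregular inertial group

Inertial index 3 or 5 on a Sylow 2-subgroup of order 16 gives eight characters; a cyclic inertial
group transitive on the nonidentity elements gives `|P|`.
-/

set_option autoImplicit false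
set_option linter.unusedSectionVars false
set_option linter.style.haveILetI false

namespace CfsgLib.RankOneInvolution

open Cfsg CfsgLib.Blocks CfsgLib.PrincipalBlock CfsgLib.BlocksFrobenius
open scoped ComplexConjugate

universe u

variable {G : Type u} [Group G] [Fintype G] [Fact (Nat.Prime 2)] {P : Sylow 2 G}
  {M : Ideal AlgInt} [M.IsPrime]

open Classical in
theorem card_frame [Fintype (Orb P)] [DecidableEq (Orb P)] (F : Frame M P) :
    Nat.card (Cfsg.principalBlock M G) = F.rest.card + Fintype.card (Orb P) := by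
  rw [Nat.card_eq_fintype_card, ← Set.toFinset_card, Finset.card_eq_sum_ones, F.sum_block,
    ← Finset.card_eq_sum_ones, ← Finset.card_eq_sum_ones, Finset.card_univ]

/-- Inertial index three. -/
theorem card_three (h : Semireg P) (hM : Cfsg.IsPModular 2 M) (hm : Nat.card (aut P) = 3)
    (h16 : Nat.card (P : Subgroup G) = 16) : Nat.card (Cfsg.principalBlock M G) = 8 := by
  classical
  haveI := finite_orb h
  haveI := Fintype.ofFinite (Orb P)
  have hcard := card_orb_mul h
  rw [Nat.card_eq_fintype_card (α := Orb P), hm, h16] at hcard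
  haveI : Nonempty (Orb P) := Fintype.card_pos_iff.1 (by omega)
  obtain ⟨F, -, hr, -, -⟩ := exists_frame_three h hM hm (by omega) (M := M)
  rw [card_frame F, hr]
  omega

open Classical in
/-- The indicators are orthogonal to the values at the involutions on the principal block. -/
theorem sum_nu_value (hM : Cfsg.IsPModular 2 M) (hsq : ∀ w ∈ (P : Subgroup G), w * w = 1) {y : G}
    (hyP : y ∈ (P : Subgroup G)) (hy1 : y ≠ 1) :
    ∑ φ : IrrCharacter G, (if φ ∈ Cfsg.principalBlock M G then
      conj (FSIndicator.nu (φ : G → ℂ)) * (φ : G → ℂ) y else 0) = 0 := by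
  refine InvolColumn.sum_block_eq_zero (B := Cfsg.principalBlock M G) hM isPBlock_principalBlock
    (fun φ => conj (FSIndicator.nu (φ : G → ℂ))) (isPow_of_mem hyP) ?_
  intro u z hu hyz
  simp only [← classInner_sqRoots]
  have hexp : ∀ g, ∑ φ : IrrCharacter G,
      Cfsg.classInner sqRoots (φ : G → ℂ) * (φ : G → ℂ) g = sqRoots g := fun g => by
    conv_rhs => rw [Characters.classFunction_expansion isClassFunction_sqRoots]
    simp [Finset.sum_apply]
  rw [hexp]
  refine sqRoots_eq_zero hsq ?_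
  obtain ⟨w, rfl, hcw, -, hw⟩ := hu
  obtain ⟨e, rfl⟩ := isConj_iff.1 hyz
  have ho : orderOf (e * y * e⁻¹) = 2 := by
    rw [show e * y * e⁻¹ = MulAut.conj e y from rfl, MulEquiv.orderOf_eq]
    exact orderOf_eq_prime (by rw [sq]; exact hsq y hyP) hy1
  rw [hcw.orderOf_mul_eq_mul_orderOf_of_coprime (by
    rw [ho]; exact (Nat.prime_two.coprime_iff_not_dvd).2 hw), ho]
  exact dvd_mul_right 2 _

open Classical in
/-- The indicators are orthogonal to the vectors on the principal block. -/
theorem sum_nu_oc (hM : Cfsg.IsPModular 2 M) (hsq : ∀ w ∈ (P : Subgroup G), w * w = 1)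
    (o : Orb P) :
    ∑ φ ∈ (Cfsg.principalBlock M G).toFinset,
      conj (FSIndicator.nu (φ : G → ℂ)) * (oc φ o : ℂ) = 0 := by
  haveI := Fintype.ofFinite (P : Subgroup G)
  refine (mul_eq_zero.1 ?_).resolve_left (card_ne_zero P)
  rw [Finset.mul_sum]
  refine Eq.trans (Finset.sum_congr rfl (g := fun φ : IrrCharacter G => ∑ w : (P : Subgroup G),
    conj (FSIndicator.nu (φ : G → ℂ)) * (φ : G → ℂ) w * (1 - conj (rep o w : ℂ))) fun φ _ => ?_) ?_
  · rw [mul_left_comm, oc, card_mul_coeff, Finset.mul_sum]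
    exact Finset.sum_congr rfl fun w _ => by ring
  rw [Finset.sum_comm]
  refine Finset.sum_eq_zero fun w _ => ?_
  by_cases hw : w = 1
  · simp [hw]
  · rw [← Finset.sum_mul]
    refine mul_eq_zero_of_left ?_ _
    rw [← sum_nu_value (M := M) hM hsq w.2 fun e => hw (Subtype.ext e),
      ← Finset.sum_filter]
    exact Finset.sum_congr (Finset.ext fun φ => by simp) fun _ _ => rfl

open Classical in
/-- Inertial index five. -/
theorem card_five (h : Semireg P) (hM : Cfsg.IsPModular 2 M)
    (hsq : ∀ w ∈ (P : Subgroup G), w * w = 1) (hm : Nat.card (aut P) = 5)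
    (h16 : Nat.card (P : Subgroup G) = 16) : Nat.card (Cfsg.principalBlock M G) = 8 := by
  haveI := finite_orb h
  haveI := Fintype.ofFinite (Orb P)
  have hcard := card_orb_mul h
  rw [Nat.card_eq_fintype_card (α := Orb P), hm, h16] at hcard
  have ht : Fintype.card (Orb P) = 3 := by omega
  haveI : Nontrivial (Orb P) := Fintype.one_lt_card_iff_nontrivial.1 (by omega)
  obtain ⟨F⟩ := exists_frame h hM (by omega : 2 ≤ Fintype.card (Orb P)) (M := M)
  have hP1 : Nat.card (P : Subgroup G) ≠ 1 := by omega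
  have hnorm := F.norm_eq h hM
  rw [hm, ht] at hnorm
  push_cast at hnorm
  choose E hE hE3 hE0 hEo using fun (χ : IrrCharacter G) (hχ : χ ∈ Cfsg.principalBlock M G)
    (hne : χ ≠ trivChar G) => exists_indicator h hM hsq hχ hne
  have htr := F.trivChar_mem_rest
  set S := F.rest.erase (trivChar G) with hS
  have hSmem : ∀ χ ∈ S, χ ∈ F.rest ∧ χ ≠ trivChar G := fun χ hχ =>
    ⟨(Finset.mem_erase.1 hχ).2, (Finset.mem_erase.1 hχ).1⟩
  -- the rest: positive entries and nonnegative indicators
  have hrest : ∀ χ (hχ : χ ∈ S), 1 ≤ F.aval χ ∧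
      0 ≤ E χ (F.mem_rest.1 (hSmem χ hχ).1).1 (hSmem χ hχ).2 := by
    intro χ hχ
    obtain ⟨hr, hne⟩ := hSmem χ hχ
    have hB := (F.mem_rest.1 hr).1
    have h0 := hE0 χ hB hne
    obtain ⟨o⟩ : Nonempty (Orb P) := inferInstance
    have h1 := hEo χ hB hne o
    rw [Finset.sum_congr rfl fun u _ => F.oc_eq_aval hr u, Finset.sum_const, Finset.card_univ,
      ht, nsmul_eq_mul] at h0 h1
    rw [F.oc_eq_aval hr o] at h1
    push_cast at h0 h1
    have := F.aval_ne_zero h hM hP1 hr
    rcases hE3 χ hB hne with e | e | e <;> rw [e] at h0 h1 <;> constructor <;> omega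
  have heta : ∀ u, F.η u ≠ trivChar G := fun u e =>
    (F.mem_rest.1 htr).2 ⟨u, e⟩
  have heb : ∀ u, 0 ≤ E (F.η u) (F.mem u) (heta u) + (3 * F.d - F.δ) ∧
      ∀ o, 3 * (F.d - F.δ * if o = u then 1 else 0) ≤
        E (F.η u) (F.mem u) (heta u) + (3 * F.d - F.δ) := by
    intro u
    have hsum : ∑ o : Orb P, oc (F.η u) o = 3 * F.d - F.δ := by
      simp only [F.oc_eta, Finset.sum_sub_distrib, Finset.sum_const, Finset.card_univ, ht,
        ← Finset.mul_sum, Finset.sum_ite_eq', Finset.mem_univ, if_true, nsmul_eq_mul]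
      ring
    refine ⟨hsum ▸ hE0 _ (F.mem u) (heta u), fun o => ?_⟩
    have h1 := hEo _ (F.mem u) (heta u) o
    rw [hsum, F.oc_eta, ht] at h1
    exact_mod_cast h1
  -- the identity between indicators and vectors
  set ν : IrrCharacter G → ℤ := fun χ =>
    if hχ : χ ∈ Cfsg.principalBlock M G ∧ χ ≠ trivChar G then E χ hχ.1 hχ.2 else 1 with hν
  have hνnu : ∀ χ ∈ Cfsg.principalBlock M G, conj (FSIndicator.nu (χ : G → ℂ)) = (ν χ : ℂ) := by
    intro χ hχ
    by_cases hne : χ = trivChar G
    · subst hne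
      simp [hν, FSIndicator.nu, trivChar, Nat.card_eq_fintype_card]
    · simp only [hν]
      rw [dif_pos ⟨hχ, hne⟩, hE χ hχ hne, map_intCast]
  have hνtriv : ν (trivChar G) = 1 := by simp [hν]
  obtain ⟨o⟩ : Nonempty (Orb P) := inferInstance
  have hid : ∑ χ ∈ S, ν χ * F.aval χ + 1 + ∑ u : Orb P, ν (F.η u) * oc (F.η u) o = 0 := by
    refine Int.cast_injective (α := ℂ) ?_
    have h1 := sum_nu_oc (M := M) hM hsq o
    rw [F.sum_block, ← Finset.add_sum_erase _ _ htr] at h1
    rw [Finset.sum_congr rfl (g := fun χ => ((ν χ * F.aval χ : ℤ) : ℂ)) fun χ hχ => by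
        rw [hνnu χ (F.mem_rest.1 (hSmem χ hχ).1).1, F.oc_eq_aval (hSmem χ hχ).1, Int.cast_mul],
      Finset.sum_congr rfl (g := fun u => ((ν (F.η u) * oc (F.η u) o : ℤ) : ℂ)) fun u _ => by
        rw [hνnu _ (F.mem u), Int.cast_mul],
      hνnu _ trivChar_mem, hνtriv, oc_trivChar] at h1
    push_cast at h1 ⊢
    linear_combination h1
  have hSnn : ∀ χ ∈ S, 0 ≤ ν χ * F.aval χ := fun χ hχ => by
    obtain ⟨ha, he⟩ := hrest χ hχ
    simp only [hν]
    rw [dif_pos ⟨(F.mem_rest.1 (hSmem χ hχ).1).1, (hSmem χ hχ).2⟩]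
    exact mul_nonneg he (by omega)
  have hsumS : ∑ χ ∈ F.rest, F.aval χ ^ 2 = ∑ χ ∈ S, F.aval χ ^ 2 + 1 := by
    rw [← Finset.add_sum_erase _ _ htr, F.aval_trivChar, ← hS]
    ring
  rw [hsumS] at hnorm
  have hS0 : 0 ≤ ∑ χ ∈ S, F.aval χ ^ 2 := Finset.sum_nonneg fun _ _ => sq_nonneg _
  have hνeta : ∀ u, ν (F.η u) = E (F.η u) (F.mem u) (heta u) := fun u => by
    simp only [hν]
    rw [dif_pos ⟨F.mem u, heta u⟩]
  -- the family lies outside
  have hd : F.d = 0 ∧ F.δ = 1 := by
    have hd2 : F.d = 0 ∨ F.d = F.δ := by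
      have hb : -2 < F.d ∧ F.d < 2 := by
        constructor <;> nlinarith [sq_nonneg (F.d - F.δ)]
      rcases F.sign with e | e <;> rcases (by omega : F.d = -1 ∨ F.d = 0 ∨ F.d = 1) with e' | e' | e' <;>
        rw [e, e'] at hnorm ⊢ <;> norm_num at hnorm ⊢ <;> nlinarith
    rcases hd2 with hd0 | hdd
    · refine ⟨hd0, ?_⟩
      obtain ⟨h1, h2⟩ := heb o
      have h3 := h2 o
      rw [if_pos rfl, hd0] at h3
      rcases F.sign with e | e
      · exact e
      · exfalso
        rw [e] at h3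
        rcases hE3 _ (F.mem o) (heta o) with e2 | e2 | e2 <;> rw [e2] at h3 <;> omega
    · exfalso
      rcases F.sign with e | e
      · have he1 : ∀ u, ν (F.η u) = 1 := fun u => by
          obtain ⟨o', ho'⟩ := exists_ne u
          have h3 := (heb u).2 o'
          rw [if_neg ho', hdd, e] at h3
          rw [hνeta]
          rcases hE3 _ (F.mem u) (heta u) with e2 | e2 | e2 <;> rw [e2] at h3 ⊢ <;> omega
        have hη : ∑ u : Orb P, ν (F.η u) * oc (F.η u) o = 2 := by
          rw [Finset.sum_congr rfl fun u _ => by rw [he1 u, one_mul, F.oc_eta, hdd, e],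
            Finset.sum_sub_distrib, Finset.sum_const, Finset.card_univ, ht]
          simp
        have := Finset.sum_nonneg hSnn
        omega
      · obtain ⟨h1, -⟩ := heb o
        rw [hdd, e] at h1
        rcases hE3 _ (F.mem o) (heta o) with e2 | e2 | e2 <;> rw [e2] at h1 <;> omega
  obtain ⟨hd0, hδ⟩ := hd
  have hsq4 : ∑ χ ∈ S, F.aval χ ^ 2 = 4 := by
    rw [hd0, hδ] at hnorm
    norm_num at hnorm
    linarith
  have he1 : ∀ u, ν (F.η u) = 1 := fun u => by
    have h3 := (heb u).2 u
    rw [if_pos rfl, hd0, hδ] at h3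
    have h4 := (heb u).1
    rw [hd0, hδ] at h4
    rw [hνeta]
    rcases hE3 _ (F.mem u) (heta u) with e2 | e2 | e2 <;> rw [e2] at h4 ⊢ <;> omega
  have hzero : ∀ χ ∈ S, ν χ * F.aval χ = 0 := by
    have hη : ∑ u : Orb P, ν (F.η u) * oc (F.η u) o = -1 := by
      rw [Finset.sum_congr rfl fun u _ => by rw [he1 u, one_mul, F.oc_eta, hd0, hδ],
        Finset.sum_sub_distrib, Finset.sum_const_zero]
      simp
    exact (Finset.sum_eq_zero_iff_of_nonneg hSnn).1 (by omega)
  -- no double entry
  have hone : ∀ χ ∈ S, F.aval χ = 1 := by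
    intro χ hχ
    by_contra hne1
    obtain ⟨ha, -⟩ := hrest χ hχ
    have hle : F.aval χ ^ 2 ≤ 4 := hsq4 ▸ Finset.single_le_sum (f := fun χ => F.aval χ ^ 2)
      (fun _ _ => sq_nonneg _) hχ
    have h2 : F.aval χ = 2 := by
      have : F.aval χ < 3 := by nlinarith
      omega
    have honly : ∀ ψ ∈ S, ψ = χ := by
      intro ψ hψ
      by_contra hψne
      have := Finset.sum_le_sum_of_subset_of_nonneg (f := fun χ => F.aval χ ^ 2)
        (Finset.insert_subset hψ (Finset.singleton_subset_iff.2 hχ)) fun _ _ _ => sq_nonneg _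
      rw [Finset.sum_pair hψne, hsq4, h2] at this
      have := (hrest ψ hψ).1
      nlinarith
    obtain ⟨hr, hne⟩ := hSmem χ hχ
    have hB := (F.mem_rest.1 hr).1
    -- the conjugate character is the same
    set χc : IrrCharacter G := ⟨fun g => conj ((χ : G → ℂ) g), Characters.isIrr_conj χ.2⟩ with hχc
    have hcB : χc ∈ Cfsg.principalBlock M G := Klein.conj_mem_principalBlock (fun g => rfl) hB
    have hoc : ∀ o : Orb P, oc χc o = oc χ o := by
      intro o
      haveI := Fintype.ofFinite (P : Subgroup G)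
      refine Int.cast_injective (α := ℂ) (mul_left_cancel₀ (card_ne_zero P) ?_)
      rw [oc, oc, card_mul_coeff, card_mul_coeff]
      refine Finset.sum_congr rfl fun w _ => ?_
      obtain ⟨z, hz⟩ := Cfsg.Agent.S4512.int_value χ (w : G) (hsq _ w.2)
      show conj ((χ : G → ℂ) w) * _ = _
      rw [hz, map_intCast]
    have hcr : χc ∈ F.rest := by
      refine F.mem_rest.2 ⟨hcB, ?_⟩
      rintro ⟨u, hu⟩
      have := hoc u
      rw [← hu, F.oc_eta, if_pos rfl, F.oc_eq_aval hr, h2, hd0, hδ] at this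
      omega
    have hcne : χc ≠ trivChar G := fun e => by
      have := hoc o
      rw [e, oc_trivChar, F.oc_eq_aval hr, h2] at this
      omega
    have heq : χc = χ := honly χc (Finset.mem_erase.2 ⟨hcne, hcr⟩)
    have hreal : ∀ g, conj ((χ : G → ℂ) g) = (χ : G → ℂ) g := fun g =>
      congrFun (congrArg Subtype.val heq) g
    have h0 := hzero χ hχ
    rw [h2, mul_eq_zero] at h0
    have hv0 : ν χ = 0 := h0.resolve_right (by norm_num)
    have := hνnu χ hB
    rw [hv0] at this
    rcases FSIndicator.nu_irr χ with ⟨-, e | e⟩ | ⟨⟨g, hg⟩, -⟩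
    · rw [e] at this; simp at this
    · rw [e] at this; simp at this
    · exact hg (hreal g)
  have hScard : S.card = 4 := by
    rw [Finset.sum_congr rfl (g := fun _ => (1 : ℤ)) fun χ hχ => by rw [hone χ hχ, one_pow],
      Finset.sum_const, nsmul_one] at hsq4
    exact_mod_cast hsq4
  rw [card_frame F, ← Finset.card_erase_add_one htr, ← hS, hScard, ht]

open Classical in
/-- If all involutions are conjugate to `y` the count is one multiplicity. -/
theorem classInner_invs_mult {y : G} (hy : y * y = 1) (hy1 : y ≠ 1)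
    (hall : ∀ t : G, t * t = 1 → t ≠ 1 → IsConj y t) {χ : IrrCharacter G} {m : ℕ}
    (hm : (∑ c : Subgroup.centralizer ({y} : Set G), conj ((χ : G → ℂ) (c : G))) =
      (Nat.card (Subgroup.centralizer ({y} : Set G)) : ℂ) * m) :
    Cfsg.classInner invs (χ : G → ℂ) = (m : ℂ) := by
  set C := Subgroup.centralizer ({y} : Set G) with hC
  have hc0 : (Nat.card C : ℂ) ≠ 0 := Nat.cast_ne_zero.2 Nat.card_pos.ne'
  have hG : (Nat.card G : ℂ) ≠ 0 := Nat.cast_ne_zero.2 Nat.card_pos.ne'
  have hinv : ∀ g : G, invs g = ∑ w : Conjs y, if w.1 * g = g * w.1 then (1 : ℂ) else 0 := by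
    intro g
    rw [invs, Finset.sum_boole]
    congr 1
    refine Finset.card_bij (fun t ht => ⟨t, hall t (Finset.mem_filter.1 ht).2.1.1
      (Finset.mem_filter.1 ht).2.1.2⟩) (fun t ht => ?_) (fun _ _ _ _ e => congrArg Subtype.val e)
      fun w hw => ?_
    · exact Finset.mem_filter.2 ⟨Finset.mem_univ _, (Finset.mem_filter.1 ht).2.2⟩
    · obtain ⟨c, hc⟩ := isConj_iff.1 w.2
      refine ⟨w.1, Finset.mem_filter.2 ⟨Finset.mem_univ _, ⟨?_, ?_⟩, (Finset.mem_filter.1 hw).2⟩, rfl⟩
      · rw [← hc]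
        calc c * y * c⁻¹ * (c * y * c⁻¹) = c * (y * y) * c⁻¹ := by group
          _ = 1 := by rw [hy]; group
      · rw [← hc]
        exact fun e => hy1 (conj_eq_one_iff.1 e)
  set f : Conjs y → ℂ := fun w => ∑ g : G, if w.1 * g = g * w.1 then conj ((χ : G → ℂ) g) else 0
  have hf : ∀ h : G, f (act h (base y)) = (Nat.card C : ℂ) * m := by
    intro h
    rw [← hm]
    show (∑ g : G, if h * y * h⁻¹ * g = g * (h * y * h⁻¹) then _ else 0) = _
    rw [← Equiv.sum_comp (MulAut.conj h).toEquiv]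
    rw [← Finset.sum_subtype (Finset.univ.filter fun g : G => g ∈ C) (fun g => by simp)
      (fun g => conj ((χ : G → ℂ) g)), Finset.sum_filter]
    refine Finset.sum_congr rfl fun g _ => ?_
    simp only [MulEquiv.toEquiv_eq_coe, MulEquiv.coe_toEquiv, MulAut.conj_apply]
    rw [Characters.isClassFunction_of_isIrr χ.2 g h]
    have : h * y * h⁻¹ * (h * g * h⁻¹) = h * g * h⁻¹ * (h * y * h⁻¹) ↔ g ∈ C := by
      rw [hC, Subgroup.mem_centralizer_singleton_iff,
        show h * y * h⁻¹ * (h * g * h⁻¹) = h * (y * g) * h⁻¹ by group,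
        show h * g * h⁻¹ * (h * y * h⁻¹) = h * (g * y) * h⁻¹ by group, mul_left_inj, mul_right_inj,
        eq_comm]
    simp only [this]
  have h1 := sum_act y f
  rw [Finset.sum_congr rfl fun h _ => hf h, Finset.sum_const, Finset.card_univ, nsmul_eq_mul,
    nsmul_eq_mul, ← Nat.card_eq_fintype_card] at h1
  have h2 : (Nat.card G : ℂ) * Cfsg.classInner invs (χ : G → ℂ) = ∑ w : Conjs y, f w := by
    rw [Cfsg.classInner, mul_inv_cancel_left₀ hG]
    simp only [hinv, Finset.sum_mul, ite_mul, one_mul, zero_mul]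
    exact Finset.sum_comm
  rw [← h2] at h1
  refine mul_left_cancel₀ (mul_ne_zero hc0 hG) ?_
  linear_combination -h1

open Classical in
/-- A cyclic inertial group transitive on the nonidentity elements. -/
theorem card_full (h : Semireg P) (hM : Cfsg.IsPModular 2 M)
    (hsq : ∀ w ∈ (P : Subgroup G), w * w = 1) (hfull : Nat.card (aut P) + 1 = Nat.card (P : Subgroup G))
    (hcyc : IsCyclic (aut P)) :
    Nat.card (Cfsg.principalBlock M G) = Nat.card (P : Subgroup G) := by
  haveI := finite_orb h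
  haveI := Fintype.ofFinite (Orb P)
  haveI := Fintype.ofFinite (P : Subgroup G)
  haveI := Fintype.ofFinite (aut P)
  set A := Nat.card (aut P) with hA
  have hApos : 0 < A := Nat.card_pos
  have hcard := card_orb_mul h
  rw [Nat.card_eq_fintype_card (α := Orb P), ← hA] at hcard
  have ht : Fintype.card (Orb P) = 1 := by
    refine Nat.eq_of_mul_eq_mul_right hApos ?_
    rw [one_mul]
    omega
  obtain ⟨o, ho⟩ := Fintype.card_eq_one_iff.1 ht
  have hsum : ∀ f : Orb P → ℤ, ∑ u, f u = f o := fun f =>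
    Finset.sum_eq_single o (fun u _ hne => absurd (ho u) hne) (by simp)
  haveI : Nontrivial (P : Subgroup G) := Finite.one_lt_card_iff_nontrivial.1 (by omega)
  obtain ⟨x, hx1⟩ := exists_ne (1 : (P : Subgroup G))
  have hx0 : (x : G) ≠ 1 := fun e => hx1 (Subtype.ext e)
  -- transitivity
  have htrans : ∀ w : (P : Subgroup G), w ≠ 1 → ∃ f : aut P, f.1 x = w := by
    intro w hw
    let φ : aut P → {v : (P : Subgroup G) // v ≠ 1} := fun f =>
      ⟨f.1 x, fun e => hx1 (f.1.injective (by rw [e, map_one]))⟩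
    have hφ : Function.Bijective φ := by
      refine (Nat.bijective_iff_injective_and_card φ).2 ⟨fun f g e => ?_, ?_⟩
      · by_contra hne
        have e' : f.1 x = g.1 x := congrArg Subtype.val e
        exact hx1 (h.eq_one_of_fixed (mul_mem (inv_mem g.2) f.2)
          (fun e1 => hne (Subtype.ext (inv_mul_eq_one.1 e1).symm))
          (by rw [MulAut.mul_apply, e', ← MulAut.mul_apply, inv_mul_cancel, MulAut.one_apply]))
      · rw [Nat.card_eq_fintype_card (α := {v : (P : Subgroup G) // v ≠ 1}),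
          Fintype.card_subtype_compl, Fintype.card_subtype_eq, ← Nat.card_eq_fintype_card]
        omega
    obtain ⟨f, hf⟩ := hφ.2 ⟨w, hw⟩
    exact ⟨f, congrArg Subtype.val hf⟩
  have hall : ∀ t : G, t * t = 1 → t ≠ 1 → IsConj (x : G) t := by
    intro t ht2 ht1
    obtain ⟨w, hw, htw⟩ := exists_conj_mem P (g := t)
      ⟨1, by rw [pow_one]; exact orderOf_eq_prime (by rw [sq]; exact ht2) ht1⟩
    obtain ⟨f, hf⟩ := htrans ⟨w, hw⟩ fun e => ht1 (by
      obtain ⟨c, hc⟩ := isConj_iff.1 htw
      rw [show w = 1 from congrArg Subtype.val e] at hc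
      exact conj_eq_one_iff.1 hc)
    have := isConj_aut f.2 x
    rw [hf] at this
    exact this.trans htw.symm
  -- the generator
  obtain ⟨⟨_, ⟨σ, hσ⟩, rfl⟩, hgen⟩ := hcyc.exists_generator
  set s := Subgroup.normalizerMonoidHom (P : Subgroup G) ⟨σ, hσ⟩ with hs
  have hords : orderOf s = A := by
    rw [← Subgroup.orderOf_mk s (show s ∈ aut P from ⟨_, rfl⟩)]
    exact orderOf_eq_card_of_forall_mem_zpowers hgen
  have hcommaut : ∀ f ∈ aut P, Commute f s := by
    intro f hf
    obtain ⟨j, hj⟩ := hgen ⟨f, hf⟩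
    have : s ^ j = f := congrArg Subtype.val hj
    rw [← this]
    exact (Commute.refl s).zpow_left j
  have hfus : ∀ g : G, g * (x : G) * g⁻¹ ∈ (P : Subgroup G) →
      g * (σ * x * σ⁻¹) * g⁻¹ ∈ (P : Subgroup G) →
      g * (σ * x * σ⁻¹) * g⁻¹ = σ * (g * x * g⁻¹) * σ⁻¹ := by
    intro g h1 h2
    set v : G := σ * x * σ⁻¹ with hv
    have hvP : v ∈ (P : Subgroup G) := (Subgroup.mem_normalizer_iff.1 hσ x).1 x.2
    haveI := h.comm
    obtain ⟨n, hn, hX⟩ := CfsgLib.Transfer.exists_mem_normalizer_conj_of_weaklyClosed P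
      (CfsgLib.Transfer.isWeaklyClosed_self _) (X := {(x : G), v}) (g := g)
      (fun w hw => Subgroup.mem_centralizer_iff.2 fun z hz => by
        rcases hz with rfl | rfl
        exacts [mul_comm_mem h.comm x.2 hw, mul_comm_mem h.comm hvP hw])
      (fun w hw => Subgroup.mem_centralizer_iff.2 fun z hz => by
        obtain ⟨a, ha, rfl⟩ := hz
        rcases ha with rfl | rfl
        exacts [mul_comm_mem h.comm h1 hw, mul_comm_mem h.comm h2 hw])
    have ex := hX (x : G) (Or.inl rfl)
    have ev := hX v (Or.inr rfl)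
    rw [← ex, ← ev]
    have := congrArg (fun e : MulAut (P : Subgroup G) => ((e x : (P : Subgroup G)) : G))
      (hcommaut _ ⟨⟨n, hn⟩, rfl⟩).eq
    simp only [MulAut.mul_apply, hs, coe_aut_apply] at this
    exact this
  have hspow : ∀ (l : ℕ), ((s ^ l) x : G) = σ ^ l * x * (σ ^ l)⁻¹ := by
    intro l
    rw [hs, ← map_pow]
    exact coe_aut_apply (pow_mem hσ l) x
  have hL : ∀ l D : ℕ, l < D → D < A →
      σ ^ l * (x : G) * (σ ^ l)⁻¹ ≠ σ ^ D * x * (σ ^ D)⁻¹ := by
    intro l D hlD hDA e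
    rw [← hspow, ← hspow] at e
    have e' : (s ^ (D - l)) x = x := (s ^ l).injective (by
      rw [← MulAut.mul_apply, ← pow_add, Nat.add_sub_cancel' hlD.le]
      exact (Subtype.ext e).symm)
    have hmem : s ^ (D - l) ∈ aut P := pow_mem (show s ∈ aut P from ⟨_, rfl⟩) _
    have hone : s ^ (D - l) = 1 := by
      by_contra hne
      exact hx1 (h.eq_one_of_fixed hmem hne e')
    have := orderOf_dvd_of_pow_eq_one hone
    rw [hords] at this
    have := Nat.le_of_dvd (by omega) this
    omega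
  -- the multiplicities
  choose m hm hmc using fun (χ : IrrCharacter G) (hχ : χ ∈ Cfsg.principalBlock M G) =>
    exists_mult_centralizer h hM hχ x.2 hx0
  set N : IrrCharacter G → ℕ := fun χ =>
    if hχ : χ ∈ Cfsg.principalBlock M G then m χ hχ else 0 with hN
  have hNm : ∀ χ ∈ Cfsg.principalBlock M G, Cfsg.classInner invs (χ : G → ℂ) = (N χ : ℂ) := by
    intro χ hχ
    simp only [hN, dif_pos hχ]
    exact classInner_invs_mult (hsq _ x.2) hx0 hall (hm χ hχ)
  have horb := le_sum_mult hM P h.comm x.2 hσ hfus hL N (fun χ hχ => by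
    have := congrArg conj (hm χ hχ)
    rw [map_sum, map_mul, map_natCast, map_natCast] at this
    simp only [Complex.conj_conj] at this
    simp only [hN, dif_pos hχ]
    rw [this, inv_mul_cancel_left₀ (Nat.cast_ne_zero.2 Nat.card_pos.ne')])
  -- the values
  have hval : ∀ χ : IrrCharacter G, (χ : G → ℂ) x = (oc χ o : ℂ) := by
    intro χ
    have h1 := sum_orbSum h (hx1 : x ≠ 1)
    rw [Finset.sum_eq_single o (fun u _ hne => absurd (ho u) hne) (by simp)] at h1
    rw [apply_eq_neg_oc h χ hx1,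
      Finset.sum_eq_single o (fun u _ hne => absurd (ho u) hne) (by simp), h1]
    ring
  have hNu : ∑ χ ∈ (Cfsg.principalBlock M G).toFinset, (N χ : ℤ) * oc χ o = A := by
    refine Int.cast_injective (α := ℂ) ?_
    have h1 := sum_block_invs h hM hsq x.2 hx0
    rw [← hfull, Nat.cast_add, Nat.cast_one, add_sub_cancel_right] at h1
    push_cast
    rw [← h1, ← Finset.sum_filter]
    refine Finset.sum_congr (Finset.ext fun φ => by simp) fun φ hφ => ?_
    rw [hNm φ (Finset.mem_filter.1 hφ).2, hval]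
  have hkey : ∀ χ ∈ (Cfsg.principalBlock M G).toFinset,
      (N χ : ℤ) * (1 - oc χ o) ≤ 0 ∧
        ((oc χ o = 1 ∨ oc χ o = -1) ∨ (N χ : ℤ) * (1 - oc χ o) < 0) := by
    intro χ hχ
    have hχB := Set.mem_toFinset.1 hχ
    by_cases hne : χ = trivChar G
    · subst hne
      rw [oc_trivChar]
      simp
    have hu0 : oc χ o ≠ 0 := by
      obtain ⟨u, hu⟩ := exists_coeff_ne_zero h hM (by omega) hχB
      rw [ho u] at hu
      exact hu
    obtain ⟨e, he, he3, h0, hb⟩ := exists_indicator h hM hsq hχB hne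
    have hb' := hb o
    rw [ht, hsum, Nat.cast_one, one_mul] at hb'
    rw [hsum] at h0
    have hNe : (N χ : ℤ) = e + oc χ o := by
      refine Int.cast_injective (α := ℂ) ?_
      have h1 := classInner_invs_eq h hM hsq hχB
      rw [hNm χ hχB, he, if_neg hne, sub_zero, map_intCast] at h1
      push_cast
      rw [h1]
      congr 1
      exact Finset.sum_eq_single o (fun u _ hne => absurd (ho u) hne) (by simp)
    rw [hNe]
    rcases lt_or_gt_of_ne hu0 with hneg | hpos
    · have : e + oc χ o = 0 := by rcases he3 with rfl | rfl | rfl <;> omega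
      exact ⟨by rw [this]; simp, Or.inl (by rcases he3 with rfl | rfl | rfl <;> omega)⟩
    · by_cases h1 : oc χ o = 1
      · exact ⟨by simp [h1], Or.inl (Or.inl h1)⟩
      · have h2 : (e + oc χ o) * (1 - oc χ o) < 0 :=
          mul_neg_of_pos_of_neg (by omega) (by omega)
        exact ⟨h2.le, Or.inr h2⟩
  have habs : ∀ χ ∈ (Cfsg.principalBlock M G).toFinset, oc χ o * oc χ o = 1 := by
    intro χ hχ
    rcases (hkey χ hχ).2 with (e | e) | e
    · rw [e]; rfl
    · rw [e]; rfl
    · exfalso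
      have h1 : ∑ φ ∈ (Cfsg.principalBlock M G).toFinset, (N φ : ℤ) * (1 - oc φ o) < 0 :=
        Finset.sum_neg' (fun φ hφ => (hkey φ hφ).1) ⟨χ, hχ, e⟩
      simp only [mul_sub, mul_one, Finset.sum_sub_distrib, hNu] at h1
      have h2 : (A : ℤ) ≤ ∑ φ ∈ (Cfsg.principalBlock M G).toFinset, (N φ : ℤ) := by
        rw [← Nat.cast_sum]
        exact_mod_cast horb
      omega
  have hg := gram_oc h hM o o (M := M)
  rw [if_pos rfl, Finset.sum_congr rfl habs, Finset.sum_const, nsmul_one] at hg
  rw [Nat.card_eq_fintype_card, ← Set.toFinset_card, ← hfull]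
  exact_mod_cast hg

end CfsgLib.RankOneInvolution
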